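import Cfsg.Agent.Lib.EPC.Defs
import Cfsg.Agent.Lib.RecL.L34
import Cfsg.Agent.Lib.LT.Good

/-!
# Groups with all elements of prime power order: recognition of `L₃(4)`
-/

set_option autoImplicit false
set_option linter.unusedSectionVars false

namespace Cfsg.Agent.EPC

open Subgroup R3 EPO RecL Cfsg.Agent.LT LT2B

universe u

variable {G : Type u} [Group G]

theorem l34_nofix (h : EP G) {g x : G} (hg : orderOf g = 3) (x2 : x * x = 1) (e : g * x * g⁻¹ = x) :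
    x = 1 := by
  have g3 : g ^ 3 ^ 1 = 1 := by rw [pow_one, ← hg, pow_orderOf_eq_one]
  have g1 : g ≠ 1 := fun e => by rw [e, orderOf_one] at hg; omega
  obtain ⟨j, hj⟩ := h.comm Nat.prime_three (mul_inv_eq_iff_eq_mul.1 e) g1 g3
  exact eq_one_of_two Nat.prime_three Nat.prime_two (by omega) hj (j := 1) (by rw [pow_one, sq, x2])

theorem l34_sig (h : EP G) {g x : G} (hg : orderOf g = 3) {V : Subgroup G} (hV : EA 2 V)
    (hgV : g ∈ normalizer (V : Set G)) (hx : x ∈ V) :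
    g * (g * x * g⁻¹) * g⁻¹ = x * (g * x * g⁻¹) := by
  have g1 : g * g * g = 1 := by rw [← pow_three', ← hg, pow_orderOf_eq_one]
  have h1 := nm_cj hgV hx
  have h2 := nm_cj hgV h1
  have sq' : ∀ y ∈ V, y * y = 1 := fun y hy => by rw [← sq]; exact hV.2 y hy
  have h3 : g * (g * (g * x * g⁻¹) * g⁻¹) * g⁻¹ = x := by
    calc _ = (g * g * g) * x * (g * g * g)⁻¹ := by group
      _ = x := by rw [g1]; group
  have h4 := l34_nofix h hg (sq' _ (mul_mem (mul_mem hx h1) h2)) (by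
    rw [← conj_mul, ← conj_mul, h3, hV.1 _ (mul_mem h1 h2) x hx, ← mul_assoc x])
  rw [eq_inv_of_mul_eq_one_right h4]
  exact inv_eq_of_mul_eq_one_right (sq' _ (mul_mem hx h1))

section
variable (h : EP G) {V A : Subgroup G} (hV : EA 2 V) (hA : EA 2 A)
  (hW : ∀ v ∈ V, ∀ a ∈ A, v * a * v⁻¹ * a⁻¹ ∈ V ⊓ A) {g : G} (hg : orderOf g = 3)
  (hgV : g ∈ normalizer (V : Set G)) (hgA : g ∈ normalizer (A : Set G))
include h hV hA hW hg hgV hgA

theorem l34_coord {a b : G} (aS : a ∈ V) (bS : b ∈ A) (nc : ¬ Commute a b) :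
    ∃ a b z : K4 → G, (∀ s r, a (s + r) = a s * a r) ∧ (∀ s r, b (s + r) = b s * b r) ∧
    (∀ s r, z (s + r) = z s * z r) ∧ (∀ s, a s ∈ V) ∧ (∀ s, b s ∈ A) ∧ (∀ s, z s ∈ V ⊓ A) ∧
    (∀ s, z s = 1 → s = 0) ∧ ∀ s r, a s * b r * (a s)⁻¹ * (b r)⁻¹ = z (s * r) := by
  have sqV : ∀ {y}, y ∈ V → y * y = 1 := fun hy => by rw [← sq]; exact hV.2 _ hy
  have sqA : ∀ {y}, y ∈ A → y * y = 1 := fun hy => by rw [← sq]; exact hA.2 _ hy
  have cV : ∀ {z y}, z ∈ V ⊓ A → y ∈ V → Commute y z := fun hz hy => hV.1 _ hy _ hz.1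
  have cA : ∀ {z y}, z ∈ V ⊓ A → y ∈ A → Commute y z := fun hz hy => hA.1 _ hy _ hz.2
  have a2 := sqV aS
  have b2 := sqA bS
  have a'S := nm_cj hgV aS
  have b'S := nm_cj hgA bS
  obtain ⟨c, hc⟩ : ∃ c, a * b * a⁻¹ * b⁻¹ = c := ⟨_, rfl⟩
  obtain ⟨d, hd⟩ : ∃ c, a * (g * b * g⁻¹) * a⁻¹ * (g * b * g⁻¹)⁻¹ = c := ⟨_, rfl⟩
  obtain ⟨e, he⟩ : ∃ c, g * a * g⁻¹ * b * (g * a * g⁻¹)⁻¹ * b⁻¹ = c := ⟨_, rfl⟩
  have hf : g * a * g⁻¹ * (g * b * g⁻¹) * (g * a * g⁻¹)⁻¹ * (g * b * g⁻¹)⁻¹ = g * c * g⁻¹ := by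
    rw [← hc]; group
  have cz : c ∈ V ⊓ A := hc ▸ hW _ aS _ bS
  have dz : d ∈ V ⊓ A := hd ▸ hW _ aS _ b'S
  have ez : e ∈ V ⊓ A := he ▸ hW _ a'S _ bS
  have fz : g * c * g⁻¹ ∈ V ⊓ A := hf ▸ hW _ a'S _ b'S
  have c1 : c ≠ 1 := fun e => nc (mul_inv_eq_iff_eq_mul.1 (mul_inv_eq_one.1 (hc.trans e)))
  have c2 := sqV cz.1
  have zc : ∀ {x y : G}, x ∈ V ⊓ A → y ∈ V ⊓ A → x * y = y * x := fun hx hy => hV.1 _ hx.1 _ hy.1
  have sa := l34_sig h hg hV hgV aS
  have sb := l34_sig h hg hA hgA bS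
  have sc := l34_sig h hg hV hgV cz.1
  have r1 := cm_right hc hd (cA dz bS)
  have r2 := cm_right he hf (cA fz bS)
  have l1 := cm_left hc he (cV ez aS)
  have l2 := cm_left hd hf (cV fz aS)
  have l3 := cm_left r1 r2 (cV (mul_mem ez fz) aS)
  have fp : ∀ x ∈ V ⊓ A, g * (x * (c * (g * c * g⁻¹))) * g⁻¹ = x * (c * (g * c * g⁻¹)) →
      x = c * (g * c * g⁻¹) := fun x hx e => by
    have m := mul_mem hx (mul_mem cz fz)
    rw [eq_inv_of_mul_eq_one_left (l34_nofix h hg (sqV m.1) e)]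
    exact inv_eq_of_mul_eq_one_right (sqV (mul_mem cz fz).1)
  have gc : g * (c * (g * c * g⁻¹)) * g⁻¹ = c := by
    rw [← conj_mul, sc, zc cz fz, ← mul_assoc, sqV fz.1, one_mul]
  have h3 : e * (g * c * g⁻¹) * (c * d) = c * (g * c * g⁻¹) := by
    rw [← l3, ← sa, ← sb, ← sc, ← hc]; group
  have h4 : d = e := by
    rw [zc cz fz, mul_assoc, ← mul_assoc _ c, zc ez (mul_mem (mul_mem fz cz) dz), mul_assoc,
      mul_eq_left] at h3
    rw [eq_inv_of_mul_eq_one_left h3]; exact inv_eq_of_mul_eq_one_right (sqV ez.1)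
  have ee : e = c * (g * c * g⁻¹) := fp e ez (by
    have h2 : g * d * g⁻¹ = e * (g * c * g⁻¹) := by rw [← r2, ← sb, ← hd]; group
    rw [← conj_mul, gc, ← h4, h2, h4, zc cz fz, mul_assoc])
  have dd : d = c * (g * c * g⁻¹) := h4.trans ee
  subst ee
  obtain ⟨f, hf'⟩ : ∃ f, f = g * c * g⁻¹ := ⟨_, rfl⟩
  have f2 : f * f = 1 := hf' ▸ sqV fz.1
  have f1 : f ≠ 1 := fun e => c1 (by simpa using conj_eq_one_iff.1 (hf' ▸ e))
  have cf1 : c * f ≠ 1 := fun e => c1 (by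
    rw [hf', ← sc] at e; simpa using conj_eq_one_iff.1 (conj_eq_one_iff.1 e))
  subst dd
  rw [← hf'] at hf fz hd he dz r1 r2 l1 l2 l3
  have q1 : ∀ x, c * (c * x) = x := fun x => by rw [← mul_assoc, c2, one_mul]
  have q2 : ∀ x, f * (c * x) = c * (f * x) := fun x => by rw [← mul_assoc, zc fz cz, mul_assoc]
  refine ⟨par a (g * a * g⁻¹), par b (g * b * g⁻¹), par c (c * f),
    par_add a2 (sqV a'S) (hV.1 _ aS _ a'S), par_add b2 (sqA b'S) (hA.1 _ bS _ b'S),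
    par_add c2 (sqV dz.1) (zc cz dz), par_mem aS a'S,
    par_mem bS b'S, par_mem cz dz, fun s hs => ?_, fun s r => ?_⟩
  · cases s
    · rfl
    · exact absurd hs c1
    · exact absurd hs cf1
    · exact absurd ((q1 f).symm.trans hs) f1
  · cases s <;> cases r <;>
      simp only [par, hc, hd, he, hf, r1, r2, l1, l2, l3] <;>
      simp only [mul_assoc, q1, q2, zc fz cz, c2, f2, one_mul, mul_one, inv_one, mul_inv_cancel]

theorem l34_frame [Finite G] {T : Subgroup G} (cV : Nat.card V = 16) (cA : Nat.card A = 16)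
    (cW : Nat.card (V ⊓ A : Subgroup G) = 4) (hS : ∀ s, s ∈ T ↔ ∃ v ∈ V, ∃ a ∈ A, s = v * a)
    (hVA : ∀ v ∈ V, ∀ a ∈ A, Commute v a → v ∈ A ∨ a ∈ V)
    (hC : ∀ x, ∀ w ∈ V ⊓ A, w ≠ 1 → Commute x w → x ∈ T) : Nonempty (Fr (Fin 1) K4 G) := by
  obtain ⟨a', ha', ha''⟩ : ∃ v ∈ V, v ∉ A := by
    by_contra hc
    push Not at hc
    rw [inf_eq_left.2 hc, cV] at cW
    omega
  obtain ⟨b', hb', hb''⟩ : ∃ v ∈ A, v ∉ V := by
    by_contra hc
    push Not at hc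
    rw [inf_eq_right.2 hc, cA] at cW
    omega
  obtain ⟨a, b, z, aa, ba, za, aS, bS, zZ, z1, cm⟩ := l34_coord h hV hA hW hg hgV hgA ha' hb'
    fun e => (hVA _ ha' _ hb' e).elim ha'' hb''
  have cV' : ∀ {z y}, z ∈ V ⊓ A → y ∈ V → Commute y z := fun hz hy => hV.1 _ hy _ hz.1
  have cA' : ∀ {z y}, z ∈ V ⊓ A → y ∈ A → Commute y z := fun hz hy => hA.1 _ hy _ hz.2
  have N1 : ∀ x : M (Fin 1) K4, x.N = 1 := fun x => by
    obtain ⟨a, ha, e⟩ := x.hN
    rw [Matrix.det_eq_elem_of_subsingleton _ default, Fintype.card_fin, K4.cube a ha] at e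
    exact mat_eq_one e
  have a0 : a 0 = 1 := by simpa using aa 0 0
  have b0 : b 0 = 1 := by simpa using ba 0 0
  have ab : ∀ s r, a s * b r = b r * a s * z (s * r) := fun s r => by
    rw [((cA' (zZ _) (bS r)).mul_left (cV' (zZ _) (aS s))).eq, ← cm]; group
  let ψ : M (Fin 1) K4 →* G := MonoidHom.mk'
      (fun x => b (x.v default) * a (x.u default) * z x.c) fun x y => by
    simp only [M.mul_u, M.mul_v, M.mul_c, N1, Matrix.vecMul_one, Matrix.one_mulVec, Pi.add_apply,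
      aa, ba, za, dot_one]
    calc _ = b (x.v default) * (b (y.v default) * a (x.u default)) *
          (a (y.u default) * (z x.c * z (x.u default * y.v default))) * z y.c := by
          simp only [mul_assoc]
      _ = b (x.v default) * (b (y.v default) * a (x.u default) * z (x.u default * y.v default)) *
          (a (y.u default) * z x.c) * z y.c := by
        rw [(cV' (zZ (x.u default * y.v default)) (zZ x.c).1).eq, ← mul_assoc (a (y.u default)),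
          (cV' (zZ (x.u default * y.v default)) (aS _)).eq]
        simp only [mul_assoc]
      _ = b (x.v default) * a (x.u default) * (b (y.v default) * a (y.u default) * z x.c) * z y.c := by
        rw [← ab]; simp only [mul_assoc]
      _ = _ := by
        rw [((cA' (zZ x.c) (bS _)).mul_left (cV' (zZ x.c) (aS _))).eq]; simp only [mul_assoc]
  have hψ : ∀ x, ψ x = b (x.v default) * a (x.u default) * z x.c := fun _ => rfl
  have hz : ∀ c, ψ (M.z c) = z c := fun c => by rw [hψ]; simp [a0, b0]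
  have inj : Function.Injective ψ := (injective_iff_map_eq_one ψ).2 fun x hx => by
    have k : ∀ y c, y * x * y⁻¹ * x⁻¹ = M.z c → c = 0 := fun y c e => z1 c (by
      rw [← hz, ← e]; simp [hx])
    rw [M.eq_q (N1 x)] at k hx ⊢
    have e1 := k (M.q (kk _ 1) 0 0) (x.v default) (by
      rw [M.conj_q_q, M.q_inv, M.q_mul, M.z, M.q_inj]
      exact ⟨vadd_self _, vadd_self _, by
        simp only [dot_one, kk_apply, Pi.zero_apply]
        linear_combination CharTwo.add_self_eq_zero (x.c + x.u default * x.v default)⟩)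
    have e2 := k (M.q 0 (kk _ 1) 0) (x.u default) (by
      rw [M.conj_q_q, M.q_inv, M.q_mul, M.z, M.q_inj]
      exact ⟨vadd_self _, vadd_self _, by
        simp only [dot_one, kk_apply, Pi.zero_apply]
        linear_combination CharTwo.add_self_eq_zero (x.c + x.u default * x.v default)⟩)
    rw [hψ, M.q_u, M.q_v, M.q_c, e1, e2, a0, b0, one_mul, one_mul] at hx
    exact M.q_eq_one.2 ⟨by rw [eq_kk x.u, e2]; rfl, by rw [eq_kk x.v, e1]; rfl, z1 _ hx⟩
  have key : ∀ (E : Subgroup G) (f : K4 × K4 → M (Fin 1) K4), Nat.card E = 16 →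
      Function.Injective f → (∀ p, ψ (f p) ∈ E) → E ≤ ψ.range := fun E f cE fi fm x hx => by
    obtain ⟨p, hp⟩ := (Function.Injective.bijective_of_nat_card_le (f := fun p => (⟨_, fm p⟩ : E))
      (fun p q e => fi (inj (congrArg Subtype.val e))) (by simp [cE, K4.card])).2 ⟨x, hx⟩
    exact ⟨_, congrArg Subtype.val hp⟩
  have rV := key V (fun p => M.q (kk _ p.1) 0 p.2) cV (fun p q e => by
      rw [M.q_inj, kk_inj] at e
      exact Prod.ext e.1 e.2.2) fun p => by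
    rw [hψ, M.q_u, M.q_v, M.q_c, Pi.zero_apply, b0, one_mul]
    exact mul_mem (aS _) (zZ _).1
  have rA := key A (fun p => M.q 0 (kk _ p.1) p.2) cA (fun p q e => by
      rw [M.q_inj, kk_inj] at e
      exact Prod.ext e.2.1 e.2.2) fun p => by
    rw [hψ, M.q_u, M.q_v, M.q_c, Pi.zero_apply, a0, mul_one]
    exact mul_mem (bS _) (zZ _).2
  refine ⟨ψ, inj, fun c hc x hx => ?_⟩
  obtain ⟨v, hv, w, hw, rfl⟩ := (hS x).1 (hC x _ (zZ c) (fun e => hc (z1 c e)) (hz c ▸ hx))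
  exact mul_mem (rV hv) (rA hw)

end

theorem l34 [Finite G] [IsSimpleGroup G] (h : EP G) {V A T : Subgroup G} (hV : EA 2 V) (hA : EA 2 A)
    (cV : Nat.card V = 16) (cA : Nat.card A = 16) (cW : Nat.card (V ⊓ A : Subgroup G) = 4)
    (hS : ∀ s, s ∈ T ↔ ∃ v ∈ V, ∃ a ∈ A, s = v * a)
    (hVA : ∀ v ∈ V, ∀ a ∈ A, Commute v a → v ∈ A ∨ a ∈ V)
    (hW : ∀ v ∈ V, ∀ a ∈ A, v * a * v⁻¹ * a⁻¹ ∈ V ⊓ A)
    (hC : ∀ x, ∀ w ∈ V ⊓ A, w ≠ 1 → Commute x w → x ∈ T) {g : G} (hg : orderOf g = 3)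
    (hgV : g ∈ normalizer (V : Set G)) (hgA : g ∈ normalizer (A : Set G)) :
    ∃ (F : Type) (_ : Field F) (_ : Fintype F), Fintype.card F = 4 ∧
      Nonempty (G ≃* Matrix.ProjectiveSpecialLinearGroup (Fin 3) F) := by
  have hq : 2 < Fintype.card K4 := by decide
  have hI : ∀ φ : Fr (Fin 1) K4 G, φ.Good := fun φ => LT.Fr.good (Or.inl hq) φ
  obtain ⟨φ⟩ := l34_frame h hV hA hW hg hgV hgA cV cA cW hS hVA hC
  obtain ⟨κ, _, _, i, j, x, h1, h2, h3, h4, h5⟩ := exists_stR_three (Fintype.card_fin 1) hq φ (hI φ)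
  obtain ⟨k, rfl, rfl⟩ := LT0.exists_equiv_K h1 h2
  obtain ⟨e'⟩ := LT0.iso_of_stR (Or.inl hq) hI φ (x := fun a b => x (k a) (k b))
    ⟨fun h => h3.add (k.injective.ne h),
      fun a b c d => h3.comm (k.injective.ne a) (k.injective.ne b) (k.injective.ne c) (k.injective.ne d),
      fun a b c => h3.step (k.injective.ne a) (k.injective.ne b) (k.injective.ne c)⟩ h4 h5
  obtain ⟨e, -, -⟩ := LT0.exists_equiv_K (ι := Fin 1) (κ := Fin 3) (i := 0) (j := 1) (by simp) (by decide)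
  exact ⟨K4, inferInstance, inferInstance, rfl, ⟨e'.trans (Forms.centerQuotEquiv (LT0.reSL e)).symm⟩⟩

end Cfsg.Agent.EPC
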