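import Cfsg.Agent.Lib.EPC.Defs
import Mathlib.GroupTheory.Perm.Cycle.Type

/-!
# Groups with all elements of prime power order: the two elementary groups of order 16 are not swapped
-/

set_option autoImplicit false
set_option linter.unusedSectionVars false

namespace Cfsg.Agent.EPC

open Subgroup R3 EPO

universe u

variable {G : Type u} [Group G]

/-- Thompson's transfer lemma in a simple group -/
theorem thompson [Finite G] [IsSimpleGroup G] (hG : ¬ IsMulCommutative G) (T : Sylow 2 G)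
    {S : Subgroup G} (hST : S ≤ T) (hc : Nat.card (T : Subgroup G) = 2 * Nat.card S) {t : G}
    (ht : t * t = 1) : ∃ g : G, g * t * g⁻¹ ∈ S := by
  classical
  by_contra hn
  push Not at hn
  have := Fintype.ofFinite (G ⧸ S)
  let φ := Equiv.Perm.sign.comp (MulAction.toPermHom G (G ⧸ S))
  have h1 : S.index = 2 * (T : Subgroup G).index := by
    have e1 := S.card_mul_index
    have e2 := (T : Subgroup G).card_mul_index
    rw [hc, ← e1, mul_comm 2, mul_assoc] at e2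
    exact (Nat.eq_of_mul_eq_mul_left Nat.card_pos e2).symm
  have h2 : Odd (T : Subgroup G).index := by
    rw [← Nat.not_even_iff_odd, even_iff_two_dvd]
    exact T.not_dvd_index
  have h3 := Equiv.Perm.sign_of_pow_two_eq_one (σ := MulAction.toPermHom G (G ⧸ S) t)
    (by rw [← map_pow, sq, ht, map_one])
  have : IsEmpty (Function.fixedPoints (MulAction.toPermHom G (G ⧸ S) t)) := ⟨fun ⟨x, hx⟩ => by
    obtain ⟨g, rfl⟩ := QuotientGroup.mk_surjective x
    have h4 : ((t * g : G) : G ⧸ S) = g := hx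
    rw [eq_comm, QuotientGroup.eq] at h4
    exact hn g⁻¹ (by simpa [mul_assoc] using h4)⟩
  rw [Fintype.card_eq_zero (α := Function.fixedPoints _), ← Nat.card_eq_fintype_card,
    ← index_eq_card, h1, Nat.sub_zero, Nat.mul_div_cancel_left _ two_pos, h2.neg_one_pow] at h3
  rcases IsSimpleGroup.eq_bot_or_eq_top_of_normal φ.ker inferInstance with h4 | h4
  · have h5 := (MonoidHom.ker_eq_bot_iff φ).1 h4
    exact hG ⟨⟨fun a b => h5 (by rw [map_mul, map_mul, mul_comm])⟩⟩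
  · have h5 : φ t = 1 := by rw [← MonoidHom.mem_ker, h4]; trivial
    have h6 : φ t = -1 := h3
    rw [h5] at h6
    exact absurd h6 (by decide)

theorem sq_of_ea {E : Subgroup G} (hE : EA 2 E) {x : G} (hx : x ∈ E) : x * x = 1 := by
  rw [← sq]; exact hE.2 x hx

theorem ea_conj {E : Subgroup G} (hE : EA 2 E) (g : G) :
    EA 2 (E.map (MulAut.conj g).toMonoidHom) := by
  constructor
  · rintro _ ⟨x, hx, rfl⟩ _ ⟨y, hy, rfl⟩
    rw [← map_mul, ← map_mul, hE.1 x hx y hy]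
  · rintro _ ⟨x, hx, rfl⟩
    rw [← map_pow, hE.2 x hx, map_one]

theorem le_or_le_of_union {E V A : Subgroup G} (h : ∀ x ∈ E, x ∈ V ∨ x ∈ A) : E ≤ V ∨ E ≤ A := by
  by_contra hc
  push Not at hc
  obtain ⟨x, hx, hxV⟩ := SetLike.not_le_iff_exists.1 hc.1
  obtain ⟨y, hy, hyA⟩ := SetLike.not_le_iff_exists.1 hc.2
  have hxA := (h x hx).resolve_left hxV
  have hyV := (h y hy).resolve_right hyA
  rcases h _ (mul_mem hx hy) with e | e
  · exact hxV ((mul_mem_cancel_right hyV).1 e)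
  · exact hyA ((mul_mem_cancel_left hxA).1 e)

/-- the elements of a group of order four -/
theorem four_cases [Finite G] {W : Subgroup G} (hW : Nat.card W = 4) {a b c : G} (ha : a ∈ W)
    (hb : b ∈ W) (hc : c ∈ W) (ha1 : a ≠ 1) (hb1 : b ≠ 1) (hc1 : c ≠ 1) (hab : a ≠ b) (hac : a ≠ c)
    (hbc : b ≠ c) {x : G} (hx : x ∈ W) : x = 1 ∨ x = a ∨ x = b ∨ x = c := by
  have h1 : ({1, a, b, c} : Set G) ⊆ W := by
    rintro y (rfl | rfl | rfl | rfl)
    exacts [W.one_mem, ha, hb, hc]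
  have h2 : ({1, a, b, c} : Set G).ncard = 4 := by
    rw [Set.ncard_insert_of_notMem (by simp [ha1.symm, hb1.symm, hc1.symm]),
      Set.ncard_insert_of_notMem (by simp [hab, hac]), Set.ncard_pair hbc]
  have h3 := Set.eq_of_subset_of_ncard_le h1 (by
    rw [h2, ← hW]; exact (Set.ncard_def _).le.trans (by rfl)) (Set.toFinite _)
  have h4 : x ∈ ({1, a, b, c} : Set G) := h3 ▸ hx
  simpa using h4

section
variable [Finite G] {V A S : Subgroup G} (hV : EA 2 V) (hA : EA 2 A)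
  (cV : Nat.card V = 16) (cA : Nat.card A = 16) (cW : Nat.card (V ⊓ A : Subgroup G) = 4)
  (hS : ∀ s, s ∈ S ↔ ∃ v ∈ V, ∃ a ∈ A, s = v * a)
  (hVA : ∀ v ∈ V, ∀ a ∈ A, Commute v a → v ∈ A ∨ a ∈ V)
include hV hA cV cA cW hS hVA

theorem sw_inv {s : G} (hs : s ∈ S) (h2 : s * s = 1) : s ∈ V ∨ s ∈ A := by
  obtain ⟨v, hv, a, ha, rfl⟩ := (hS s).1 hs
  have h1 : Commute v a := by
    have e1 := sq_of_ea hV hv
    have e2 := sq_of_ea hA ha
    have e3 : v * a = (v * a)⁻¹ := eq_inv_of_mul_eq_one_left h2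
    rw [mul_inv_rev, ← eq_inv_of_mul_eq_one_left e1, ← eq_inv_of_mul_eq_one_left e2] at e3
    exact e3
  rcases hVA v hv a ha h1 with e | e
  · exact Or.inr (mul_mem e ha)
  · exact Or.inl (mul_mem hv e)

theorem sw_eq {E : Subgroup G} (hE : EA 2 E) (cE : Nat.card E = 16) (hES : E ≤ S) :
    E = V ∨ E = A :=
  (le_or_le_of_union fun x hx => sw_inv hV hA cV cA cW hS hVA (hES hx) (sq_of_ea hE hx)).imp
    (fun e => eq_of_le_of_card_ge e (by rw [cV, cE])) fun e => eq_of_le_of_card_ge e (by rw [cA, cE])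

omit hV hA cV cA cW hVA in
theorem sw_VS : V ≤ S := fun v hv => (hS v).2 ⟨v, hv, 1, one_mem _, (mul_one v).symm⟩

omit hV hA cV cA cW hVA in
theorem sw_AS : A ≤ S := fun a ha => (hS a).2 ⟨1, one_mem _, a, ha, (one_mul a).symm⟩

/-- an element normalising `S` and not `V` swaps `V` and `A` -/
theorem sw_swap {x : G} (hx : x ∈ normalizer (S : Set G)) (hxV : x ∉ normalizer (V : Set G)) :
    (∀ v, v ∈ V ↔ x * v * x⁻¹ ∈ A) ∧ ∀ a, a ∈ A ↔ x * a * x⁻¹ ∈ V := by
  let c : G →* G := (MulAut.conj x).toMonoidHom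
  have hc : Function.Injective c := (MulAut.conj x).injective
  have hm : ∀ E ≤ S, E.map c ≤ S := by
    rintro E hE _ ⟨y, hy, rfl⟩
    exact (mem_normalizer_iff.1 hx y).1 (hE hy)
  have h1 := sw_eq hV hA cV cA cW hS hVA (ea_conj hV x) (by rw [card_map_of_injective hc, cV])
    (hm V (sw_VS hS))
  have h2 := sw_eq hV hA cV cA cW hS hVA (ea_conj hA x) (by rw [card_map_of_injective hc, cA])
    (hm A (sw_AS hS))
  have h3 : V.map c = A := h1.resolve_left fun e => hxV (mem_normalizer_fintype fun y hy => by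
    have : c y ∈ V.map c := mem_map_of_mem c hy
    rwa [show V.map c = V from e] at this)
  have h4 : A.map c = V := h2.resolve_right fun e => by
    have e1 : V = A := map_injective hc (h3.trans (show A.map c = A from e).symm)
    rw [e1, inf_idem, cA] at cW
    omega
  exact ⟨fun v => by rw [← h3]; exact (mem_map_iff_mem hc).symm,
    fun a => by rw [← h4]; exact (mem_map_iff_mem hc).symm⟩

variable (T : Sylow 2 G) (hK : (T : Subgroup G) ⊓ normalizer (V : Set G) = S)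
include hK

theorem sw_two {x y : G} (hx : x ∈ (T : Subgroup G) ⊓ normalizer (S : Set G))
    (hy : y ∈ (T : Subgroup G) ⊓ normalizer (S : Set G)) (hxS : x ∉ S) (hyS : y ∉ S) :
    x * y ∈ S := by
  have h1 := sw_swap hV hA cV cA cW hS hVA hx.2 fun e => hxS (hK ▸ ⟨hx.1, e⟩)
  have h2 := sw_swap hV hA cV cA cW hS hVA hy.2 fun e => hyS (hK ▸ ⟨hy.1, e⟩)
  rw [← hK]
  refine ⟨mul_mem hx.1 hy.1, mem_normalizer_fintype fun v hv => ?_⟩
  have := (h1.2 _).1 ((h2.1 v).1 hv)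
  simpa [mul_assoc] using this

theorem sw_big {E : Subgroup G} (hE : EA 2 E) (cE : Nat.card E = 16)
    (hET : E ≤ (T : Subgroup G) ⊓ normalizer (S : Set G)) : E ≤ S := by
  intro e he
  by_contra heS
  have h1 := sw_swap hV hA cV cA cW hS hVA (hET he).2 fun e' => heS (hK ▸ ⟨(hET he).1, e'⟩)
  have h2 : ∀ x ∈ E, x ∈ S → x ∈ V ⊓ A := fun x hx hxS => by
    have e1 : e * x * e⁻¹ = x := by rw [hE.1 e he x hx, mul_inv_cancel_right]
    rcases sw_inv hV hA cV cA cW hS hVA hxS (sq_of_ea hE hx) with e2 | e2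
    · exact ⟨e2, e1 ▸ (h1.1 x).1 e2⟩
    · exact ⟨e1 ▸ (h1.2 x).1 e2, e2⟩
  have h3 : (E : Set G) ⊆ ((V ⊓ A : Subgroup G) : Set G) ∪
      (fun x => e * x) '' ((V ⊓ A : Subgroup G) : Set G) := fun x hx => by
    by_cases hxS : x ∈ S
    · exact Or.inl (h2 x hx hxS)
    · refine Or.inr ⟨e * x, h2 _ (mul_mem he hx)
        (sw_two hV hA cV cA cW hS hVA T hK (hET he) (hET hx) heS hxS), ?_⟩
      simp only
      rw [← mul_assoc, sq_of_ea hE he, one_mul]
  have h4 := (Set.ncard_le_ncard h3 (Set.toFinite _)).trans (Set.ncard_union_le _ _)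
  rw [Set.ncard_image_of_injective _ (mul_right_injective e)] at h4
  have h5 : (E : Set G).ncard = 16 := cE
  have h6 : ((V ⊓ A : Subgroup G) : Set G).ncard = 4 := cW
  omega

theorem sw_le : (T : Subgroup G) ≤ normalizer (S : Set G) := by
  by_contra hn
  have hST : S ≤ T := hK ▸ inf_le_left
  obtain ⟨y, hy, hy1, hy2⟩ := exists_mem_normalizer_of_lt T.isPGroup'
    (lt_of_le_of_ne (inf_le_left : (T : Subgroup G) ⊓ normalizer (S : Set G) ≤ T)
      fun e => hn (e ▸ inf_le_right))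
  refine hy1 ⟨hy, mem_normalizer_fintype fun s hs => ?_⟩
  have key : ∀ E ≤ S, EA 2 E → Nat.card E = 16 → ∀ x ∈ E, y * x * y⁻¹ ∈ S := by
    intro E hES hE cE x hx
    refine sw_big hV hA cV cA cW hS hVA T hK (ea_conj hE y)
      (by rw [card_map_of_injective (MulAut.conj y).injective, cE]) ?_ ⟨x, hx, rfl⟩
    rintro _ ⟨z, hz, rfl⟩
    exact (mem_normalizer_iff.1 hy2 z).1 ⟨hST (hES hz), le_normalizer (hES hz)⟩
  obtain ⟨v, hv, a, ha, rfl⟩ := (hS s).1 hs
  have := mul_mem (key V (sw_VS hS) hV cV v hv) (key A (sw_AS hS) hA cA a ha)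
  simpa [mul_assoc] using this

theorem sw_card {t : G} (ht : t ∈ (T : Subgroup G)) (htS : t ∉ S) :
    Nat.card (T : Subgroup G) = 2 * Nat.card S := by
  have hST : S ≤ T := hK ▸ inf_le_left
  have hTN := sw_le hV hA cV cA cW hS hVA T hK
  have h1 : (S.subgroupOf T).index = 2 := by
    rw [index_eq_two_iff]
    refine ⟨⟨t, ht⟩, fun b => ?_⟩
    by_cases hb : (b : G) ∈ S
    · exact Or.inr ⟨hb, fun e => htS ((mul_mem_cancel_left hb).1 e)⟩
    · exact Or.inl ⟨sw_two hV hA cV cA cW hS hVA T hK ⟨b.2, hTN b.2⟩ ⟨ht, hTN ht⟩ hb htS, hb⟩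
  have h2 := (S.subgroupOf T).card_mul_index
  rw [h1, Nat.card_congr (subgroupOfEquivOfLe hST).toEquiv] at h2
  omega

omit cV cA cW hVA hK in
theorem sw_cent {w s : G} (hw : w ∈ V ⊓ A) (hs : s ∈ S) : w * s = s * w := by
  obtain ⟨v, hv, a, ha, rfl⟩ := (hS s).1 hs
  rw [← mul_assoc, hV.1 w hw.1 v hv, mul_assoc, hA.1 w hw.2 a ha, mul_assoc]

variable (h : EP G)
  (hC : ∀ x ∈ normalizer (V : Set G), ∀ w ∈ V ⊓ A, w ≠ 1 → Commute x w → x ∈ S)
include h hC

/-- an involution outside `S` which does not centralise `V ⊓ A` -/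
theorem sw_exists {t g : G} (ht : t ∈ (T : Subgroup G)) (htS : t ∉ S) (hg : orderOf g = 3)
    (hgV : g ∈ normalizer (V : Set G)) (hgA : g ∈ normalizer (A : Set G)) :
    ∃ t ∈ (T : Subgroup G), t ∉ S ∧ t * t = 1 ∧ ∃ w ∈ V ⊓ A, t * w * t⁻¹ ≠ w := by
  have hST : S ≤ T := hK ▸ inf_le_left
  have hTN := sw_le hV hA cV cA cW hS hVA T hK
  have g3 : g ^ 3 ^ 1 = 1 := by rw [pow_one, ← hg, pow_orderOf_eq_one]
  have g1 : g ≠ 1 := fun e => by rw [e, orderOf_one] at hg; omega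
  -- nothing in `T` commutes with a conjugate of `g`
  have fpf : ∀ x ∈ (T : Subgroup G), Commute g x → x = 1 := fun x hx e => by
    obtain ⟨j, hj⟩ := h.comm Nat.prime_three e g1 g3
    obtain ⟨i, hi⟩ := pow_of_mem T.isPGroup' hx
    exact eq_one_of_two Nat.prime_three Nat.prime_two (by omega) hj hi
  have hgS : g ∈ normalizer (S : Set G) := mem_normalizer_fintype fun s hs => by
    obtain ⟨v, hv, a, ha, rfl⟩ := (hS s).1 hs
    have := mul_mem (sw_VS hS ((mem_normalizer_iff.1 hgV v).1 hv))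
      (sw_AS hS ((mem_normalizer_iff.1 hgA a).1 ha))
    simpa [mul_assoc] using this
  have nW : ∀ x ∈ normalizer (V : Set G), x ∈ normalizer (A : Set G) → ∀ w ∈ V ⊓ A,
      x * w * x⁻¹ ∈ V ⊓ A := fun x h1 h2 w hw =>
    ⟨(mem_normalizer_iff.1 h1 w).1 hw.1, (mem_normalizer_iff.1 h2 w).1 hw.2⟩
  have h1 := sw_swap hV hA cV cA cW hS hVA (hTN ht) fun e => htS (hK ▸ ⟨ht, e⟩)
  have hTi : t⁻¹ ∈ (T : Subgroup G) := inv_mem ht
  have h1' := sw_swap hV hA cV cA cW hS hVA (hTN hTi)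
    fun e => htS (S.inv_mem_iff.1 (hK ▸ ⟨hTi, e⟩))
  have g'V : t * g * t⁻¹ ∈ normalizer (V : Set G) := mem_normalizer_fintype fun v hv => by
    have := (h1.2 _).1 ((mem_normalizer_iff.1 hgA _).1 ((h1'.1 v).1 hv))
    simpa [mul_assoc] using this
  have g'A : t * g * t⁻¹ ∈ normalizer (A : Set G) := mem_normalizer_fintype fun v hv => by
    have := (h1.1 _).1 ((mem_normalizer_iff.1 hgV _).1 ((h1'.2 v).1 hv))
    simpa [mul_assoc] using this
  obtain ⟨w, hw, w1⟩ : ∃ w ∈ V ⊓ A, w ≠ 1 := by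
    by_contra hc
    push Not at hc
    rw [(eq_bot_iff_forall _).2 hc, card_bot] at cW
    omega
  have wT : ∀ w ∈ V ⊓ A, w ∈ (T : Subgroup G) := fun w hw => hST (sw_VS hS hw.1)
  have g2 : ∀ w ∈ V ⊓ A, g * w * g⁻¹ = g⁻¹ * w * g⁻¹⁻¹ → w = 1 := fun w hw e => by
    refine fpf w (wT w hw) ?_
    have e1 : Commute (g ^ 2) w := by
      have : g * (g * w * g⁻¹) * g⁻¹ = w := by rw [e]; group
      rw [Commute, SemiconjBy, sq]
      calc g * g * w = g * (g * w * g⁻¹) * g⁻¹ * (g * g) := by group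
        _ = _ := by rw [this]
    have e2 := e1.pow_left 2
    rwa [← pow_mul, show 2 * 2 = 3 ^ 1 + 1 by norm_num, pow_succ, g3, one_mul] at e2
  have c1 : ∀ x y : G, y ≠ 1 → x * y * x⁻¹ ≠ 1 := fun x y hy e => hy (by
    calc y = x⁻¹ * (x * y * x⁻¹) * x := by group
      _ = 1 := by rw [e]; group)
  have h2 := four_cases cW hw (nW g hgV hgA w hw) (nW g⁻¹ (inv_mem hgV) (inv_mem hgA) w hw) w1
    (c1 _ _ w1) (c1 _ _ w1)
    (fun e => w1 (fpf w (wT w hw) (mul_inv_eq_iff_eq_mul.1 e.symm)))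
    (fun e => w1 (fpf w (wT w hw) (Commute.inv_left_iff.1 (mul_inv_eq_iff_eq_mul.1 e.symm))))
    (fun e => w1 (g2 w hw e)) (nW _ g'V g'A w hw)
  rcases h2 with e | e | e | e
  · exact absurd e (c1 _ _ w1)
  · exfalso
    refine c1 t⁻¹ w w1 (fpf _ (mul_mem (mul_mem hTi (wT w hw)) (inv_mem hTi)) ?_)
    rw [Commute, SemiconjBy]
    calc g * (t⁻¹ * w * t⁻¹⁻¹) = t⁻¹ * (t * g * t⁻¹ * w * (t * g * t⁻¹)⁻¹) * t * g := by group
      _ = _ := by rw [e]; group
  · exfalso
    have e1 : g⁻¹ * (t * g * t⁻¹) ∈ S := hC _ (mul_mem (inv_mem hgV) g'V) w hw w1 (by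
      rw [Commute, SemiconjBy]
      calc g⁻¹ * (t * g * t⁻¹) * w
          = g⁻¹ * (t * g * t⁻¹ * w * (t * g * t⁻¹)⁻¹) * (t * g * t⁻¹) := by group
        _ = _ := by rw [e]; group)
    obtain ⟨s, hs, e2⟩ := lift hgS (fun d hd => fpf d (hST hd))
      ((mem_normalizer_iff.1 hgS _).1 e1)
    have e3 := fpf (s⁻¹ * t) (mul_mem (inv_mem (hST hs)) ht) (by
      rw [Commute, SemiconjBy]
      calc g * (s⁻¹ * t) = s⁻¹ * (s * g * s⁻¹) * t := by group
        _ = _ := by rw [e2]; group)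
    exact htS (inv_mul_eq_one.1 e3 ▸ hs)
  · have e1 : g * (t * g * t⁻¹) ∈ S := hC _ (mul_mem hgV g'V) w hw w1 (by
      rw [Commute, SemiconjBy]
      calc g * (t * g * t⁻¹) * w
          = g * (t * g * t⁻¹ * w * (t * g * t⁻¹)⁻¹) * (t * g * t⁻¹) := by group
        _ = _ := by rw [e]; group)
    obtain ⟨s, hs, e2⟩ := lift (inv_mem hgS) (fun d hd e => fpf d (hST hd) (Commute.inv_left_iff.1 e))
      ((mem_normalizer_iff.1 (inv_mem hgS) _).1 e1)
    have e3 : (s⁻¹ * t) * g * (s⁻¹ * t)⁻¹ = g⁻¹ := by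
      calc (s⁻¹ * t) * g * (s⁻¹ * t)⁻¹
          = s⁻¹ * (g⁻¹ * (g * (t * g * t⁻¹)) * g⁻¹⁻¹ * g⁻¹) * s := by group
        _ = _ := by rw [← e2]; group
    have hT0 : s⁻¹ * t ∈ (T : Subgroup G) := mul_mem (inv_mem (hST hs)) ht
    have hS0 : s⁻¹ * t ∉ S := fun e => htS ((mul_mem_cancel_left (inv_mem hs)).1 e)
    generalize s⁻¹ * t = t0 at e3 hT0 hS0
    refine ⟨t0, hT0, hS0, fpf _ (mul_mem hT0 hT0) ?_, ?_⟩
    · rw [Commute, SemiconjBy]
      have e4 : t0 * g⁻¹ * t0⁻¹ = g := by rw [← conj_inv, e3, inv_inv]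
      calc g * (t0 * t0) = t0 * g⁻¹ * t0⁻¹ * (t0 * t0) := by rw [e4]
        _ = t0 * (t0 * g * t0⁻¹) * t0 := by rw [e3]; group
        _ = _ := by group
    · by_contra hc
      push Not at hc
      refine w1 (g2 w hw ?_)
      have e4 := hc _ (nW g hgV hgA w hw)
      have e5 := hc w hw
      calc g * w * g⁻¹ = (t0 * g * t0⁻¹) * (t0 * w * t0⁻¹) * (t0 * g * t0⁻¹)⁻¹ := by
            rw [← e4]; group
        _ = _ := by rw [e3, e5]

omit hC in
theorem sw_false [IsSimpleGroup G] (hG : ¬ IsMulCommutative G)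
    (hcl : ∀ v ∈ V, ∀ v' ∈ V, v ≠ 1 → v' ≠ 1 → IsConj v v') {t w : G}
    (ht : t ∈ (T : Subgroup G)) (htS : t ∉ S) (t2 : t * t = 1) (hw : w ∈ V ⊓ A)
    (hn : t * w * t⁻¹ ≠ w) : False := by
  have hST : S ≤ T := hK ▸ inf_le_left
  have hSV : S ≤ normalizer (V : Set G) := hK ▸ inf_le_right
  have hTN := sw_le hV hA cV cA cW hS hVA T hK
  have two : ∀ x ∈ (T : Subgroup G), ∀ y ∈ (T : Subgroup G), x ∉ S → y ∉ S → x * y ∈ S :=
    fun x hx y hy => sw_two hV hA cV cA cW hS hVA T hK ⟨hx, hTN hx⟩ ⟨hy, hTN hy⟩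
  have h1 := sw_swap hV hA cV cA cW hS hVA (hTN ht) fun e => htS (hK ▸ ⟨ht, e⟩)
  have ti : t⁻¹ = t := inv_eq_of_mul_eq_one_left t2
  have tt : ∀ x, t * (t * x) = x := fun x => by rw [← mul_assoc, t2, one_mul]
  rw [ti] at h1 hn
  have nW : ∀ x ∈ V ⊓ A, t * x * t ∈ V ⊓ A := fun x hx => ⟨(h1.2 x).1 hx.2, (h1.1 x).1 hx.1⟩
  have cS : ∀ x ∈ V ⊓ A, ∀ s ∈ S, x * s = s * x := fun x hx s hs => sw_cent hV hA hS hx hs
  have WS : ∀ x ∈ V ⊓ A, x ∈ S := fun x hx => sw_VS hS hx.1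
  have w2 := sq_of_ea hV hw.1
  have w1 : w ≠ 1 := fun e => hn (by rw [e, mul_one, t2])
  have w'1 : t * w * t ≠ 1 := fun e => w1 (by
    calc w = t * (t * w * t) * t := by simp only [mul_assoc, tt, t2, mul_one]
      _ = 1 := by rw [e, mul_one, t2])
  obtain ⟨z, hz⟩ : ∃ z, z = w * (t * w * t) := ⟨_, rfl⟩
  have zW : z ∈ V ⊓ A := hz ▸ mul_mem hw (nW w hw)
  have z2 := sq_of_ea hV zW.1
  have z1 : z ≠ 1 := fun e => hn (by
    calc t * w * t = w * (w * (t * w * t)) := by rw [← mul_assoc w, w2, one_mul]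
      _ = w := by rw [← hz, e, mul_one])
  have tz : t * z * t = z := by
    rw [hz, hV.1 w hw.1 _ (nW w hw).1]
    conv_lhs => rw [← hV.1 w hw.1 _ (nW w hw).1]
    simp only [mul_assoc, tt, t2, mul_one]
  have tz' : t * z = z * t := by
    calc t * z = t * z * t * t := by rw [mul_assoc, t2, mul_one]
      _ = _ := by rw [tz]
  -- the fixed points of `t` in `V ⊓ A`
  have fx : ∀ x ∈ V ⊓ A, t * x * t = x → x = 1 ∨ x = z := fun x hx e => by
    rcases four_cases cW hw (nW w hw) zW w1 w'1 z1 hn.symm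
      (fun e => w'1 (by rw [hz] at e; exact (left_eq_mul.1 e)))
      (fun e => w1 (by rw [hz] at e; exact (right_eq_mul.1 e))) hx with e1 | e1 | e1 | e1
    · exact Or.inl e1
    · exact absurd (e1 ▸ e) hn
    · refine absurd ?_ hn
      rw [e1] at e
      rw [← e]
      simp only [mul_assoc, tt, t2, mul_one]
    · exact Or.inr e1
  -- the centraliser of `z`
  have zT : ∀ x ∈ (T : Subgroup G), z * x = x * z := fun x hx => by
    by_cases hxS : x ∈ S
    · exact cS z zW x hxS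
    · have := cS z zW _ (two x hx t ht hxS htS)
      calc z * x = z * (x * t) * t := by simp only [mul_assoc, t2, mul_one]
        _ = x * (t * z * t) := by rw [this]; simp only [mul_assoc]
        _ = _ := by rw [tz]
  have Cz : ∀ x, z * x = x * z → x ∈ (T : Subgroup G) := fun x hx => by
    have e1 : IsPGroup 2 (centralizer ({z} : Set G)) := isPGroup_of_pow fun y hy =>
      h.comm Nat.prime_two (mem_centralizer_singleton_iff.1 hy).symm z1 (k := 1)
        (by rw [pow_one, sq, z2])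
    rw [← T.is_maximal' e1 fun y hy => mem_centralizer_singleton_iff.2 (zT y hy).symm]
    exact mem_centralizer_singleton_iff.2 hx.symm
  -- the involutions of `C_T(t)`
  have inS : ∀ y ∈ S, y * y = 1 → t * y = y * t → y = 1 ∨ y = z := fun y hy y2 e => by
    have e1 : t * y * t = y := by rw [e, mul_assoc, t2, mul_one]
    refine fx y ?_ e1
    rcases sw_inv hV hA cV cA cW hS hVA hy y2 with e2 | e2
    · exact ⟨e2, e1 ▸ (h1.1 y).1 e2⟩
    · exact ⟨e1 ▸ (h1.2 y).1 e2, e2⟩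
  have inT : ∀ y ∈ (T : Subgroup G), y * y = 1 → t * y = y * t →
      y ∈ ({1, z, t, z * t} : Set G) := fun y hy y2 e => by
    by_cases hyS : y ∈ S
    · rcases inS y hyS y2 e with e1 | e1 <;> simp [e1]
    · have e0 : y = y * t * t := by rw [mul_assoc, t2, mul_one]
      rcases inS (y * t) (two y hy t ht hyS htS)
        (by rw [mul_assoc, ← mul_assoc t, e, mul_assoc, t2, mul_one, y2])
        (by rw [← mul_assoc, e]) with e1 | e1 <;> rw [e0, e1] <;> simp
  -- an element of order four centralising `t`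
  obtain ⟨v, hv, hvA⟩ : ∃ v ∈ V, v ∉ A := by
    by_contra hc
    push Not at hc
    rw [inf_eq_left.2 hc, cV] at cW
    omega
  have ha := (h1.1 v).1 hv
  have haV : t * v * t ∉ V := fun e => hvA (by
    have := (h1.1 _).1 e
    simpa only [mul_assoc, tt, t2, mul_one] using this)
  have tv : t * (t * v * t) * t = v := by simp only [mul_assoc, tt, t2, mul_one]
  have hvNA : ∀ b ∈ A, v * b * v ∈ A := fun b hb => by
    have e1 := nm_cj (hSV (sw_AS hS ha)) ((h1.2 b).1 hb)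
    have e2 := (h1.1 _).1 e1
    rw [← eq_inv_of_mul_eq_one_left (sq_of_ea hA ha)] at e2
    simpa only [mul_assoc, tt, t2, mul_one] using e2
  have e0 : t * (v * (t * v * t)) * t = t * v * t * v := by simp only [mul_assoc, tt, t2, mul_one]
  generalize t * v * t = a at ha haV tv e0
  have v2 := sq_of_ea hV hv
  have a2 := sq_of_ea hA ha
  have vv : ∀ x, v * (v * x) = x := fun x => by rw [← mul_assoc, v2, one_mul]
  have aa : ∀ x, a * (a * x) = x := fun x => by rw [← mul_assoc, a2, one_mul]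
  have xW : v * a * (v * a) ∈ V ⊓ A := by
    rw [mem_inf]
    constructor
    · have e1 := nm_cj (hSV (sw_AS hS ha)) hv
      rw [← eq_inv_of_mul_eq_one_left a2] at e1
      simpa only [mul_assoc] using mul_mem hv e1
    · simpa only [mul_assoc] using mul_mem (hvNA a ha) ha
  have x1 : v * a * (v * a) ≠ 1 := fun e => by
    have e1 : Commute v a := by
      calc v * a = a * v * (v * a * (v * a)) := by simp only [mul_assoc, vv, aa]
        _ = a * v := by rw [e, mul_one]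
    exact (hVA v hv a ha e1).elim hvA haV
  have x2 := sq_of_ea hV xW.1
  have xz : v * a * (v * a) = z := (fx _ xW (by
    calc t * (v * a * (v * a)) * t = (t * (v * a) * t) * (t * (v * a) * t) := by
          simp only [mul_assoc, tt]
      _ = a * v * (a * v) * (v * a * (v * a) * (v * a * (v * a))) := by rw [e0, x2, mul_one]
      _ = _ := by simp only [mul_assoc, vv, aa])).resolve_left x1
  have xS : v * a ∈ S := (hS _).2 ⟨v, hv, a, ha, rfl⟩
  have cw := cS w hw _ xS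
  have y2 : v * a * w * (v * a * w) = z := by
    rw [mul_assoc, ← mul_assoc w, cw, mul_assoc (v * a) w w, w2, mul_one, xz]
  have ty : t * (v * a * w) = v * a * w * t := by
    calc t * (v * a * w) = (t * (v * a) * t) * (w * w) * (t * w * t) * t := by
          rw [w2]; simp only [mul_assoc, tt, t2, mul_one]
      _ = a * v * (w * (w * (t * w * t))) * t := by rw [e0]; simp only [mul_assoc]
      _ = a * v * (v * a * (v * a) * w) * t := by rw [← hz, cS w hw z (WS z zW), xz]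
      _ = _ := by simp only [mul_assoc, vv, aa]
  generalize v * a * w = y at y2 ty
  -- `t` is conjugate to `z`
  obtain ⟨k, hk⟩ : ∃ k, k * z * k⁻¹ = t := by
    obtain ⟨g, hg⟩ := thompson hG T hST (sw_card hV hA cV cA cW hS hVA T hK ht htS) t2
    have t1 : t ≠ 1 := fun e => htS (e ▸ one_mem S)
    have key : ∀ g : G, g * t * g⁻¹ ∈ V → ∃ k, k * z * k⁻¹ = t := fun g hg => by
      obtain ⟨c, hc⟩ := isConj_iff.1 (hcl z zW.1 _ hg z1 fun e => t1 (by
        calc t = g⁻¹ * (g * t * g⁻¹) * g := by group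
          _ = 1 := by rw [e]; group))
      refine ⟨g⁻¹ * c, ?_⟩
      calc g⁻¹ * c * z * (g⁻¹ * c)⁻¹ = g⁻¹ * (c * z * c⁻¹) * g := by group
        _ = t := by rw [hc]; group
    rcases sw_inv hV hA cV cA cW hS hVA hg (by rw [conj_mul, t2]; group) with e | e
    · exact key g e
    · refine key (t * g) ?_
      have := (h1.2 _).1 e
      rw [mul_inv_rev, ti]
      simpa only [mul_assoc] using this
  have yT : k⁻¹ * y * k ∈ (T : Subgroup G) := Cz _ (by
    calc z * (k⁻¹ * y * k) = k⁻¹ * (k * z * k⁻¹ * y) * k := by group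
      _ = k⁻¹ * (y * (k * z * k⁻¹)) * k := by rw [hk, ty]
      _ = _ := by group)
  have uS : k⁻¹ * z * k ∈ S := by
    have e : k⁻¹ * z * k = k⁻¹ * y * k * (k⁻¹ * y * k) := by rw [← y2]; group
    rw [e]
    by_cases e1 : k⁻¹ * y * k ∈ S
    · exact mul_mem e1 e1
    · exact two _ yT _ yT e1 e1
  have fin : ∀ E ≤ S, EA 2 E → Nat.card E = 16 → k⁻¹ * z * k ∈ E → False := by
    intro E hES hE cE hu
    have h3 : (fun x => k * x * k⁻¹) '' (E : Set G) ⊆ ({1, z, t, z * t} : Set G) := by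
      rintro _ ⟨x, hx, rfl⟩
      refine inT _ (Cz _ ?_) (by rw [conj_mul, sq_of_ea hE hx]; group) ?_
      · calc z * (k * x * k⁻¹) = k * (k⁻¹ * z * k * x) * k⁻¹ := by group
          _ = _ := by rw [hE.1 _ hu x hx]; group
      · simp only
        rw [← hk, conj_mul, conj_mul, zT x (hST (hES hx))]
    have h4 := Set.ncard_le_ncard h3 (Set.toFinite _)
    rw [Set.ncard_image_of_injective (f := fun x => k * x * k⁻¹) _
      (fun a b e => (MulAut.conj k).injective e)] at h4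
    have h5 : (E : Set G).ncard = 16 := cE
    have h6 := Set.ncard_insert_le (1 : G) {z, t, z * t}
    have h7 := Set.ncard_insert_le z {t, z * t}
    have h8 := Set.ncard_insert_le t {z * t}
    rw [Set.ncard_singleton] at h8
    omega
  rcases sw_inv hV hA cV cA cW hS hVA uS (by
    calc k⁻¹ * z * k * (k⁻¹ * z * k) = k⁻¹ * (z * z) * k := by group
      _ = 1 := by rw [z2]; group) with e | e
  · exact fin V (sw_VS hS) hV cV e
  · exact fin A (sw_AS hS) hA cA e

end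

/-- no element of `T` swaps the two elementary abelian subgroups of order sixteen -/
theorem no_swap' [Finite G] [IsSimpleGroup G] (hG : ¬ IsMulCommutative G) (h : EP G) (T : Sylow 2 G)
    {V A S : Subgroup G} (hV : EA 2 V) (hA : EA 2 A) (cV : Nat.card V = 16) (cA : Nat.card A = 16)
    (cW : Nat.card (V ⊓ A : Subgroup G) = 4) (hS : ∀ s, s ∈ S ↔ ∃ v ∈ V, ∃ a ∈ A, s = v * a)
    (hVA : ∀ v ∈ V, ∀ a ∈ A, Commute v a → v ∈ A ∨ a ∈ V)
    (hK : (T : Subgroup G) ⊓ normalizer (V : Set G) = S)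
    (hC : ∀ x ∈ normalizer (V : Set G), ∀ w ∈ V ⊓ A, w ≠ 1 → Commute x w → x ∈ S)
    (hcl : ∀ v ∈ V, ∀ v' ∈ V, v ≠ 1 → v' ≠ 1 → IsConj v v') {t g : G}
    (ht : t ∈ (T : Subgroup G)) (htS : t ∉ S) (hg : orderOf g = 3)
    (hgV : g ∈ normalizer (V : Set G)) (hgA : g ∈ normalizer (A : Set G)) : False := by
  obtain ⟨t, h1, h2, h3, w, h4, h5⟩ := sw_exists hV hA cV cA cW hS hVA T hK h hC ht htS hg hgV hgA
  exact sw_false hV hA cV cA cW hS hVA T hK h hG hcl h1 h2 h3 h4 h5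

theorem no_swap [Finite G] [IsSimpleGroup G] (hG : ¬ IsMulCommutative G) (h : EP G) (T : Sylow 2 G)
    {V A S : Subgroup G} (hV : EA 2 V) (hA : EA 2 A) (cV : Nat.card V = 16) (cA : Nat.card A = 16)
    (cW : Nat.card (V ⊓ A : Subgroup G) = 4) (hS : ∀ s, s ∈ S ↔ ∃ v ∈ V, ∃ a ∈ A, s = v * a)
    (hVA : ∀ v ∈ V, ∀ a ∈ A, Commute v a → v ∈ A ∨ a ∈ V)
    (hK : (T : Subgroup G) ⊓ normalizer (V : Set G) = S)
    (hC : ∀ x ∈ normalizer (V : Set G), ∀ w ∈ V ⊓ A, w ≠ 1 → Commute x w → x ∈ S)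
    (hcl : ∀ v ∈ V, ∀ v' ∈ V, v ≠ 1 → v' ≠ 1 → IsConj v v') {t g : G}
    (ht : t ∈ (T : Subgroup G)) (htS : t ∉ S) (_htN : t ∈ normalizer (S : Set G))
    (hg : orderOf g = 3) (hgV : g ∈ normalizer (V : Set G)) (hgA : g ∈ normalizer (A : Set G)) :
    False :=
  no_swap' hG h T hV hA cV cA cW hS hVA hK hC hcl ht htS hg hgV hgA

end Cfsg.Agent.EPC
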