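import Cfsg.Agent.Lib.EPC.Tr
import Cfsg.Agent.Lib.EPC.Ex
import Cfsg.Agent.Lib.EPC.Swap
import Cfsg.Agent.Lib.EPC.L34
import Cfsg.Agent.Lib.EPD.C

/-!
# Simple groups with elements of prime power order whose Sylow `2`-subgroups are not TI
-/

set_option autoImplicit false
set_option linter.unusedSectionVars false

namespace Cfsg.Agent.EPC

open Subgroup R3 EPO Nine

universe u

variable {G : Type u} [Group G]

theorem card_le_syl [Finite G] (T : Sylow 2 G) {S : Subgroup G} (hT : (T : Subgroup G) ≤ S) (X : Subgroup G)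
    (h : IsPGroup 2 X) : Nat.card X ≤ Nat.card S := by
  obtain ⟨P, hP⟩ := h.exists_le_sylow
  exact (card_le_of_le hP).trans ((Sylow.card_eq_multiplicity P ▸ Sylow.card_eq_multiplicity T).ge.trans
    (card_le_of_le hT))

theorem exists_cj_syl [Finite G] (T : Sylow 2 G) {X : Subgroup G} (h : IsPGroup 2 X) :
    ∃ g, X ≤ cj g (T : Subgroup G) := by
  obtain ⟨P, hP⟩ := h.exists_le_sylow
  obtain ⟨g, rfl⟩ := MulAction.exists_smul_eq G T P
  exact ⟨g, hP⟩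

/-- the conclusion -/
def Res (G : Type u) [Group G] : Prop := Nonempty (G ≃* alternatingGroup (Fin 6)) ∨
    (∃ (F : Type) (_ : Field F) (_ : Fintype F), Fintype.card F ∈ ({4, 7, 8, 17} : Finset ℕ) ∧
      Nonempty (G ≃* Matrix.ProjectiveSpecialLinearGroup (Fin 2) F)) ∨
    (∃ (F : Type) (_ : Field F) (_ : Fintype F), Fintype.card F = 4 ∧
      Nonempty (G ≃* Matrix.ProjectiveSpecialLinearGroup (Fin 3) F))

namespace Qd

variable [Finite G] {S V A : Subgroup G} (c : Qd S V A)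
include c

theorem swap (core : ∀ W ≤ NN A, IsPGroup 2 W → NN A ≤ NN W → W ≤ CC A) (SK : S ≤ NN A)
    (max : ∀ X ≤ NN A, IsPGroup 2 X → Nat.card X ≤ Nat.card S) : Qd S A V :=
  ⟨⟨c.ep, c.eA, fun e => c.nD (e ▸ bot_le), core, SK, c.pS, max, c.mV,
    fun h => by obtain ⟨v, hv, vW⟩ := c.exV; exact vW ⟨hv, h hv⟩⟩,
    fun a ha v hv u hu => by rw [c.cm_symm hv ha]; exact EA.com c.ea (c.cm_W hv ha).1 hu⟩

theorem pair {g : G} (h1 : Nine.cj g V ≤ S) (h2 : S ≤ NN (Nine.cj g V)) (h3 : ¬ Nine.cj g V ≤ CC V) :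
    Qd S V (Nine.cj g V) ∧ Qd S (Nine.cj g V) V := by
  have e := EA.cj c.ea g
  have c' : Qd S V (Nine.cj g V) := ⟨{ c.toCf with
      mA := ⟨h1, e, fun B h h' => (c.mV.2.2 B h h').trans (card_cj g V).ge⟩, nD := h3 }, fun v hv a ha b hb => by
    refine EA.com e ?_ hb
    convert mul_mem (nm_cj (h2 (c.VS hv)) ha) (inv_mem ha) using 1
    rw [cm, EA.inv c.ea hv]; group⟩
  exact ⟨c', c'.swap (c.cj g).core h2 fun X h h' => ((c.cj g).max X h h').trans (card_cj g S).le⟩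

theorem pC' {v : G} (v2 : v * v = 1) (v1 : v ≠ 1) : IsPGroup 2 (centralizer {v} : Subgroup G) :=
  isPGroup_of_pow fun x hx => c.two_of v1 v2 (mem_centralizer_iff.1 hx v rfl)

section syl

variable (hS : ∀ X : Subgroup G, IsPGroup 2 X → Nat.card X ≤ Nat.card S)
include hS

theorem CW' {x w : G} (hw : w ∈ WW V A) (w1 : w ≠ 1) (h : Commute w x) : x ∈ S :=
  (eq_of_le_of_card_ge (fun s hs => mem_centralizer_iff.2 fun y e => e ▸ (c.S_W hs hw).eq)
    (hS _ (c.pC hw.1 w1))).ge (mem_centralizer_iff.2 fun y e => e ▸ h.eq)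

theorem CV' {x v : G} (hv : v ∈ V) (v1 : v ≠ 1) (h : Commute v x) : x ∈ NN V := by
  obtain ⟨w, hw, w1⟩ := c.exW
  obtain ⟨k, hk, rfl⟩ := c.T3 hv v1 hw w1
  have := c.SK (c.CW' hS (x := k⁻¹ * x * k) hw w1 (by simpa [mul_assoc] using com_cj k⁻¹ h))
  simpa [mul_assoc] using mul_mem (mul_mem hk this) (inv_mem hk)

omit c in
theorem syl_cj (g : G) (X : Subgroup G) (h : IsPGroup 2 X) : Nat.card X ≤ Nat.card (Nine.cj g S) :=
  (hS X h).trans (card_cj g S).ge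

theorem DV' {w y : G} (hw : w ∈ WW V A) (w1 : w ≠ 1) (aS : y * w * y⁻¹ ∈ S) (aD : y * w * y⁻¹ ∉ CC V) :
    CC V ≤ V := by
  by_contra hD
  have cy := c.cj y
  have aW : y * w * y⁻¹ ∈ WW (Nine.cj y V) (Nine.cj y A) :=
    ⟨mem_cj'.2 hw.1, mem_CC_cj.2 (by simpa [mul_assoc] using hw.2)⟩
  have a2 := EA.sq cy.ea aW.1
  have a1 : y * w * y⁻¹ ≠ 1 := by simpa using w1
  generalize y * w * y⁻¹ = a at *
  obtain ⟨d, hd, dV, -, h⟩ := exists_cent (D := V) (X := CC V) c.pS c.DS c.SK (c.SK.trans Cf.KD) hD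
  have hu := h a aS
  obtain ⟨v, hv, e⟩ := (c.card_Wx (c.SK aS) (a2 ▸ one_mem _) aD).2 _ (mem_Wx.2 ⟨hu, of_cj (by
    calc _ = (d * a * d⁻¹ * a⁻¹)⁻¹ * (d * (a * a) * d⁻¹ * (a * a)⁻¹) := by group
      _ = _ := by rw [a2, EA.inv c.ea hu]; group)⟩)
  have k : Commute a (v * d) := of_cj (by
    calc _ = v * (d * a * d⁻¹ * a⁻¹) * v⁻¹ * (v * (a * v⁻¹ * a⁻¹)) * a := by group
      _ = _ := by rw [cj_of (EA.com c.ea hu hv), EA.inv c.ea hv, ← cm, e, EA.sq c.ea hu, one_mul])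
  have xD := mul_mem (c.VD hv) hd
  have xV : v * d ∉ V := fun h => dV ((Subgroup.mul_mem_cancel_left _ hv).1 h)
  generalize v * d = x at k xD xV
  obtain ⟨n, h1, h2⟩ := exists_pow_sq (X := ⊥) (g := x * x) (fun e => xV (c.inv_D xD (mem_bot.1 e)))
    (pow_of_mem c.pD (mul_mem xD xD))
  have u1 := c.inv_D (pow_mem (mul_mem xD xD) n) (mem_bot.1 h2)
  have u2 := cy.inv_D (pow_mem (cy.S_sq (cy.CW' (syl_cj hS y) aW a1 k)) n) (mem_bot.1 h2)
  have u3 := (k.mul_right k).pow_right n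
  rw [mem_bot] at h1
  generalize (x * x) ^ n = u at *
  have uW : u ∈ WW V A := by
    obtain ⟨b, hb, f, hf, rfl⟩ := c.L6' aS
    by_contra hc
    exact aD (mul_mem (c.nd u1 hc hb (by simpa using u3.symm.mul_right (mem_CC.1 (inv_mem hf) u u1))) hf)
  have h3 : S ≤ NN (Nine.cj y V) := fun s hs => cy.CV' (syl_cj hS y) u2 h1 (c.S_W hs uW)
  exact hD ((c.pair (fun z hz => c.CW' hS uW h1 (EA.com cy.ea u2 hz)) h3 fun h => aD (h aW.1)).1.DV h3)

theorem swap' {w y : G} (hw : w ∈ WW V A) (w1 : w ≠ 1) (aS : y * w * y⁻¹ ∈ S) (aD : y * w * y⁻¹ ∉ CC V) :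
    Qd S A V := by
  have hD := c.DV' hS hw w1 aS aD
  have cy := c.cj y
  have aW : y * w * y⁻¹ ∈ WW (Nine.cj y V) (Nine.cj y A) :=
    ⟨mem_cj'.2 hw.1, mem_CC_cj.2 (by simpa [mul_assoc] using hw.2)⟩
  have a1 : y * w * y⁻¹ ≠ 1 := by simpa using w1
  generalize y * w * y⁻¹ = a at *
  have aA := (c.inv_S hD aS (EA.sq cy.ea aW.1)).resolve_left fun h => aD (c.VD h)
  have hD' : CC (Nine.cj y V) ≤ Nine.cj y V := fun x hx => mem_cj.2 (hD (mem_CC_cj.1 hx))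
  have SK : S ≤ NN A := fun s hs => c.nm_A hD (c.SK hs) (c.S_nm hs)
  have SK' : Nine.cj y S ≤ NN A := by
    rcases le_or_le_of_union (fun x hx => cy.inv_S hD' (cy.CW' (syl_cj hS y) aW a1 (EA.com c.eA aA hx))
      (EA.sq c.eA hx)) with h | h
    · rw [eq_of_le_of_card_ge h (by rw [card_cj, c.card_A])]; exact cy.SK
    · rw [eq_of_le_of_card_ge h (card_cj _ _).le]; exact fun s hs => cy.nm_A hD' (cy.SK hs) (cy.S_nm hs)
  refine c.swap (fun X _ h2 h3 x hx => ?_) SK fun X _ => hS X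
  have k : ∀ {P : Subgroup G}, IsPGroup 2 P → P ≤ NN A → Nat.card P = Nat.card S → x ∈ P := fun h h' e =>
    (eq_of_le_of_card_ge le_sup_left (e ▸ hS _ (h.to_sup_of_normal_right' h2 (h'.trans h3)))).ge (mem_sup_right hx)
  have k2 := cy.S_W (k cy.pS SK' (card_cj _ _)) aW
  obtain ⟨b, hb, d, hd, rfl⟩ := c.L6' (k c.pS SK rfl)
  have dA : d ∈ A := c.WA (by_contra fun h => aD (c.nd (hD hd) h aA
    (by simpa using ((EA.com c.eA aA (inv_mem hb)).mul_right k2).symm)))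
  exact mem_CC.2 fun u hu => EA.com c.eA hu (mul_mem hb dA)

end syl

variable [IsSimpleGroup G] (hG : ¬ IsMulCommutative G) (T : Sylow 2 G)
include hG

theorem exists_out (e : (T : Subgroup G) = S) {w : G} (hw : w ∈ WW V A) (w1 : w ≠ 1) :
    ∃ y, y * w * y⁻¹ ∈ S ∧ y * w * y⁻¹ ∉ CC V := by
  have hS := card_le_syl T e.le
  by_contra hc
  push Not at hc
  obtain ⟨a, ha, aD⟩ := c.exA
  have w2 : ∀ g, g * w * g⁻¹ * (g * w * g⁻¹) = 1 := fun g => by rw [conj_mul, EA.sq c.ea hw.1]; group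
  have key : a ∈ (NN V).normalCore := fun g => by
    rcases conj_or_comm (EA.sq c.eA ha) (w2 g⁻¹) with ⟨k, hk⟩ | ⟨u, u1, u2, h1, h2⟩
    · rw [show k * (g⁻¹ * w * g⁻¹⁻¹) * k⁻¹ = k * g⁻¹ * w * (k * g⁻¹)⁻¹ by group] at hk
      exact absurd (hk ▸ hc _ (hk ▸ c.mA.1 ha)) aD
    obtain ⟨x, hx⟩ := exists_cj_syl T (c.pC' u2 u1)
    rw [e] at hx
    have h3 := mem_cj.1 (hx (x := g⁻¹ * w * g⁻¹⁻¹) (mem_centralizer_iff.2 fun y e => e ▸ h2.symm))
    rw [show x⁻¹ * (g⁻¹ * w * g⁻¹⁻¹) * x = (g * x)⁻¹ * w * (g * x)⁻¹⁻¹ by group] at h3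
    obtain ⟨k, hk, h4⟩ := c.T3 (c.inv_D (hc _ h3) (w2 _)) (fun e => w1 (conj_eq_one_iff.1 e)) hw w1
    have h5 := c.SK (c.CW' hS (x := g * x * k) hw w1 (of_cj (by
      calc _ = g * x * (k * w * k⁻¹) * (g * x)⁻¹ := by group
        _ = _ := by rw [h4]; group)))
    have h6 := c.SK (mem_cj.1 (hx (x := a) (mem_centralizer_iff.2 fun y e => e ▸ h1)))
    convert mul_mem (mul_mem h5 (mul_mem (mul_mem (inv_mem hk) h6) hk)) (inv_mem h5) using 1
    group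
  rcases (normalCore_normal (NN V)).eq_bot_or_eq_top with h | h
  · exact aD (by rw [show a = 1 from mem_bot.1 (h ▸ key)]; exact one_mem _)
  have : V.Normal := normalizer_eq_top_iff.1 (eq_top_iff.2 (h.ge.trans (normalCore_le _)))
  exact hG ⟨⟨fun x y => c.ea.1 x (by simp [this.eq_bot_or_eq_top.resolve_left c.ne]) y
    (by simp [this.eq_bot_or_eq_top.resolve_left c.ne])⟩⟩

theorem final (hK : (T : Subgroup G) ⊓ NN V = S) (c2 : Qd S A V) : Res G := by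
  have hD := c.DV c2.SK
  have eW : V ⊓ A = WW V A := le_antisymm (fun x hx => mem_WW.2 ⟨hx.1, fun a ha => EA.com c.eA ha hx.2⟩)
    (le_inf inf_le_left c.WA)
  have ST : S ≤ T := hK ▸ inf_le_left
  have cV := c.card_W
  have cA := c.card_A
  rcases c.q4 c2 with h | ⟨h, g, g3, gV, gA⟩
  · obtain ⟨v, hv, vW⟩ := c.exV
    have v1 : v ≠ 1 := fun e => vW (e ▸ one_mem _)
    obtain ⟨z, hz, z1, -, hc⟩ := exists_cent (D := ⊥) (X := T) T.2 le_rfl
      (fun x _ => nm_of fun y hy => by simp [mem_bot.1 hy]) le_normalizer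
      fun h => v1 (mem_bot.1 (h (ST (c.VS hv))))
    have k : ∀ y ∈ (T : Subgroup G), Commute y z := fun y hy =>
      (commutatorElement_eq_one_iff_commute.1 (mem_bot.1 (hc y hy))).symm
    have zW : z ∈ WW V A := mem_WW.2 ⟨hD (mem_CC.2 fun y hy => k y (ST (c.VS hy))), fun y hy => k y (ST (c.mA.1 hy))⟩
    rw [mem_bot] at z1
    rw [h] at cV
    have h8 := card_mul_le (c.VS.trans ST) (c.mA.1.trans ST)
    rw [eW, h, cA, ← cV] at h8
    obtain ⟨S', A', c', o⟩ := c.exists_opp0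
    obtain ⟨a, ha, aD⟩ := c.exA
    obtain ⟨a', ha', aD', h3⟩ := c.tri c' o ha aD
    refine (EPD.dih hG c.ep T (ST (c.VS hv)) (orderOf_eq_prime (by rw [pow_two, EA.sq c.ea hv]) v1) ?_ (by omega)
      (orderOf_eq_prime h3 (fun e => c.not_two c' o ha aD ha' aD' ⟨0, by simp [e]⟩) ▸ orderOf_dvd_natCard _)).imp_right
      Or.inl
    refine (congrArg (fun X : Subgroup G => Nat.card X) (le_antisymm (a := centralizer {v} ⊓ (T : Subgroup G))
      (fun x hx => hD (mem_CC.2 fun u hu => ?_))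
      (le_inf (fun x hx => mem_centralizer_iff.2 fun y e => e ▸ EA.com c.ea hv hx) (c.VS.trans ST)))).trans cV.symm
    have k' : Commute v x := mem_centralizer_iff.1 hx.1 v rfl
    rcases four_cases cV.symm zW.1 hv (mul_mem zW.1 hv) z1 v1
      (fun e => vW (eq_inv_of_mul_eq_one_right e ▸ inv_mem zW)) (fun e => vW (e ▸ zW)) (by simpa using v1)
      (by simpa using z1) hu with rfl | rfl | rfl | rfl
    exacts [Commute.one_left _, (k x hx.2).symm, k', (k x hx.2).symm.mul_left k']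
  rw [h] at cV
  have hS : ∀ s, s ∈ S ↔ ∃ v ∈ V, ∃ a ∈ A, s = v * a := fun s => ⟨fun hs => by
    obtain ⟨v, hv, a, ha, e⟩ := c2.L6' hs
    exact ⟨v, hv, a, c2.DV c.SK ha, e⟩, by rintro ⟨v, hv, a, ha, rfl⟩; exact mul_mem (c.VS hv) (c.mA.1 ha)⟩
  have hVA : ∀ v ∈ V, ∀ a ∈ A, Commute v a → v ∈ A ∨ a ∈ V := fun v hv a ha h =>
    (em (v ∈ WW V A)).imp (fun h => c.WA h) fun h' => hD (c.nd hv h' ha h)
  by_cases hT : (T : Subgroup G) ≤ S
  · refine Or.inr (Or.inr (l34 c.ep c.ea c.eA cV.symm (cA.trans cV.symm) (eW ▸ h) hS hVA (fun v hv a ha => ?_)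
      (fun x w hw w1 hx => c.CW' (card_le_syl T hT) (eW ▸ hw) w1 hx.symm) g3 gV gA))
    rw [eW, EA.inv c.ea hv, mul_assoc, mul_assoc, ← mul_assoc a]; exact c.cm_W hv ha
  obtain ⟨t, ht, tS⟩ := SetLike.not_le_iff_exists.1 hT
  exact (no_swap' hG c.ep T c.ea c.eA cV.symm (cA.trans cV.symm) (eW ▸ h) hS hVA hK
    (fun x hx w hw w1 h => c.CW hx (eW ▸ hw) w1 h.symm) (fun v hv v' hv' => c.conjV hv hv') ht tS g3 gV gA).elim

end Qd

theorem main [Finite G] [IsSimpleGroup G] (hG : ¬ IsMulCommutative G) (h : EP G) (T T' : Sylow 2 G) (hne : T ≠ T')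
    {x : G} (hx : x ∈ (T : Subgroup G)) (hx' : x ∈ (T' : Subgroup G)) (hx1 : x ≠ 1) :
    Nonempty (G ≃* alternatingGroup (Fin 6)) ∨
    (∃ (F : Type) (_ : Field F) (_ : Fintype F), Fintype.card F ∈ ({4, 7, 8, 17} : Finset ℕ) ∧
      Nonempty (G ≃* Matrix.ProjectiveSpecialLinearGroup (Fin 2) F)) ∨
    (∃ (F : Type) (_ : Field F) (_ : Fintype F), Fintype.card F = 4 ∧
      Nonempty (G ≃* Matrix.ProjectiveSpecialLinearGroup (Fin 3) F)) := by
  obtain ⟨T, V, A, c0⟩ := exists_cf hG h T T' hne hx hx' hx1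
  obtain ⟨A, c1, h1⟩ := c0.exists_quad
  have c : Qd _ V A := ⟨c1, h1⟩
  by_cases e : (T : Subgroup G) ⊓ NN V = T
  · obtain ⟨w, hw, w1⟩ := c.exW
    obtain ⟨y, h1, h2⟩ := c.exists_out hG T e.symm hw w1
    exact c.final hG T rfl (c.swap' (card_le_syl T e.ge) hw w1 h1 h2)
  obtain ⟨t, ht, tN, tS⟩ := Nine.exists_mem_normalizer_of_lt Nat.prime_two T.2 inf_le_left e
  have h1 : cj t V ≤ (T : Subgroup G) ⊓ NN V := fun x hx => by simpa [mul_assoc] using nm_cj tN (c.VS (mem_cj.1 hx))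
  have := c.pair h1 (fun s hs => mem_Nm_cj.2 (nm_cj' tN hs).2) fun h => tS ⟨ht, cj_eq_iff.1
    (eq_of_le_of_card_ge (fun x hx => c.inv_D (h hx) (EA.sq (EA.cj c.ea t) hx)) (card_cj _ _).ge)⟩
  exact this.1.final hG T rfl this.2

end Cfsg.Agent.EPC
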