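import Cfsg.Agent.Lib.EPC.Defs

/-!
# The action on `V`: centralizers of involutions, quadratic offenders
-/

set_option autoImplicit false
set_option linter.unusedSectionVars false

namespace Cfsg.Agent.EPC

open Subgroup R3 EPO

universe u

variable {G : Type u} [Group G]

/-- centralizer of a subgroup -/
abbrev CC (V : Subgroup G) : Subgroup G := centralizer (V : Set G)
/-- normalizer of a subgroup -/
abbrev NN (V : Subgroup G) : Subgroup G := normalizer (V : Set G)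
/-- fixed points of `x` in `V` -/
def Wx (V : Subgroup G) (x : G) : Subgroup G := V ⊓ centralizer {x}
/-- commutator with an involution `v` -/
def cm (v x : G) : G := v * (x * v * x⁻¹)

theorem mem_CC {V : Subgroup G} {x : G} : x ∈ CC V ↔ ∀ v ∈ V, Commute v x := mem_centralizer_iff
theorem mem_Wx {V : Subgroup G} {x v : G} : v ∈ Wx V x ↔ v ∈ V ∧ Commute v x := by
  simp only [Wx, mem_inf, mem_centralizer_iff, Set.mem_singleton_iff, forall_eq]
  exact and_congr_right fun _ => ⟨fun h => h.symm, fun h => h.symm.eq⟩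
theorem cj_of {x v : G} (h : Commute v x) : x * v * x⁻¹ = v := by rw [← h.eq]; group
theorem of_cj {x v : G} (h : x * v * x⁻¹ = v) : Commute v x := (mul_inv_eq_iff_eq_mul.1 h).symm
theorem com_cj (g : G) {x v : G} (h : Commute v x) : Commute (g * v * g⁻¹) (g * x * g⁻¹) :=
  h.map (MulAut.conj g)
theorem com_cj' {g x v : G} (h : Commute (g * v * g⁻¹) (g * x * g⁻¹)) : Commute v x := by
  simpa [mul_assoc] using com_cj g⁻¹ h
theorem EA.sq {A : Subgroup G} (h : EA 2 A) {x : G} (hx : x ∈ A) : x * x = 1 := by rw [← pow_two, h.2 x hx]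
theorem EA.inv {A : Subgroup G} (h : EA 2 A) {x : G} (hx : x ∈ A) : x⁻¹ = x :=
  inv_eq_of_mul_eq_one_right (EA.sq h hx)
theorem EA.com {A : Subgroup G} (h : EA 2 A) {x y : G} (hx : x ∈ A) (hy : y ∈ A) : Commute x y := h.1 x hx y hy
theorem EA.le {A B : Subgroup G} (h : EA 2 A) (e : B ≤ A) : EA 2 B :=
  ⟨fun x hx y hy => h.1 x (e hx) y (e hy), fun x hx => h.2 x (e hx)⟩
theorem EA.pg {A : Subgroup G} (h : EA 2 A) : IsPGroup 2 A := isPGroup_of_pow fun x hx => ⟨1, h.2 x hx⟩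

theorem mem_sup_nm {A B : Subgroup G} (h : A ≤ NN B) {x : G} : x ∈ A ⊔ B ↔ ∃ a ∈ A, ∃ b ∈ B, x = a * b := by
  rw [← SetLike.mem_coe, coe_mul_of_left_le_normalizer_right A B h, Set.mem_mul]
  simp only [SetLike.mem_coe, eq_comm]

theorem EA.sup {A B : Subgroup G} (hA : EA 2 A) (hB : EA 2 B) (h : ∀ a ∈ A, ∀ b ∈ B, Commute b a) :
    EA 2 (A ⊔ B) := by
  have e := fun x => mem_sup_nm (x := x) (A := A) (B := B)
    fun a ha => centralizer_le_normalizer _ (mem_CC.2 (h a ha))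
  refine ⟨fun x hx y hy => ?_, fun x hx => ?_⟩
  · obtain ⟨a, ha, b, hb, rfl⟩ := (e x).1 hx
    obtain ⟨a', ha', b', hb', rfl⟩ := (e y).1 hy
    exact ((EA.com hA ha ha').mul_right (h a ha b' hb').symm).mul_left ((h a' ha' b hb).mul_right (EA.com hB hb hb'))
  · obtain ⟨a, ha, b, hb, rfl⟩ := (e x).1 hx
    rw [(h a ha b hb).symm.mul_pow, hA.2 a ha, hB.2 b hb, one_mul]

theorem hom_card [Finite G] {X Y : Subgroup G} (f : G → G) (hf : ∀ a ∈ X, ∀ b ∈ X, f (a * b) = f a * f b)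
    (hY : ∀ a, a ∈ Y ↔ a ∈ X ∧ f a = 1) :
    ∃ R : Subgroup G, (∀ r, r ∈ R ↔ ∃ a ∈ X, f a = r) ∧ Nat.card X = Nat.card Y * Nat.card R := by
  let φ : X →* G := MonoidHom.mk' (fun a => f a) fun a b => hf a a.2 b b.2
  refine ⟨φ.range, fun r => ⟨fun ⟨a, e⟩ => ⟨a, a.2, e⟩, fun ⟨a, ha, e⟩ => ⟨⟨a, ha⟩, e⟩⟩, ?_⟩
  have e : φ.ker = Y.subgroupOf X := by
    ext a; rw [mem_subgroupOf, hY, MonoidHom.mem_ker]; exact ⟨fun h => ⟨a.2, h⟩, fun h => h.2⟩
  rw [← φ.ker.card_mul_index, index_ker, e,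
    Nat.card_congr (subgroupOfEquivOfLe (fun a ha => ((hY a).1 ha).1)).toEquiv]

theorem cm_mul {v : G} (h : v * v = 1) (a b : G) : cm v (a * b) = cm v a * (a * cm v b * a⁻¹) := by
  calc _ = v * (a * (v * v) * (b * v * b⁻¹) * a⁻¹) := by rw [h, cm]; group
    _ = _ := by simp only [cm]; group
theorem cm_eq_one {v x : G} (h : v * v = 1) : cm v x = 1 ↔ Commute v x :=
  ⟨fun e => of_cj (by rw [eq_inv_of_mul_eq_one_right e, inv_eq_of_mul_eq_one_right h]),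
    fun e => by rw [cm, cj_of e, h]⟩
theorem cj_cm {v : G} (h : v * v = 1) (x : G) : x * v * x⁻¹ = v * cm v x := by rw [cm, ← mul_assoc, h, one_mul]
theorem cm_cj (g v x : G) : cm (g * v * g⁻¹) (g * x * g⁻¹) = g * cm v x * g⁻¹ := by simp only [cm]; group

namespace Cf

variable [Finite G] {S V A : Subgroup G} (c : Cf S V A)
include c

theorem ex : ∃ v ∈ V, v ≠ 1 := by
  by_contra h; push Not at h; exact c.ne ((eq_bot_iff_forall _).2 h)
theorem two_of {v x : G} (h1 : v ≠ 1) (h2 : v * v = 1) (h : Commute v x) : ∃ n, x ^ 2 ^ n = 1 :=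
  c.ep.comm Nat.prime_two h h1 (k := 1) (by rwa [pow_one, pow_two])
theorem pD : IsPGroup 2 (CC V) := isPGroup_of_pow fun x hx => by
  obtain ⟨v, hv, h1⟩ := c.ex
  exact c.two_of h1 (EA.sq c.ea hv) (mem_CC.1 hx v hv)
theorem VD : V ≤ CC V := fun _ hx => mem_CC.2 fun _ hv => EA.com c.ea hv hx
omit c in
theorem DK : CC V ≤ NN V := centralizer_le_normalizer _
omit c in
theorem KD : NN V ≤ NN (CC V) := fun g hg => nm_of fun x hx => mem_CC.2 fun v hv => by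
  simpa [mul_assoc] using com_cj g (mem_CC.1 hx _ (nm_cj' hg hv))
theorem le_S {X : Subgroup G} (h : X ≤ NN V) (hX : IsPGroup 2 X) (hS : S ≤ X) : X ≤ S :=
  (eq_of_le_of_card_ge hS (c.max X h hX)).ge
theorem DS : CC V ≤ S := le_sup_right.trans (c.le_S (sup_le c.SK DK)
  (c.pS.to_sup_of_normal_right' c.pD (c.SK.trans KD)) le_sup_left)
theorem VS : V ≤ S := c.VD.trans c.DS
theorem AK : A ≤ NN V := c.mA.1.trans c.SK
theorem fix {y d : G} (hy : ¬ ∃ n, y ^ 2 ^ n = 1) (hd : d ∈ S) (h : Commute y d) : d = 1 := by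
  by_contra h1
  obtain ⟨k, hk⟩ := pow_of_mem c.pS hd
  exact hy (c.ep.comm Nat.prime_two h.symm h1 hk)
omit c in
theorem cm_mem {v x : G} (hx : x ∈ NN V) (hv : v ∈ V) : cm v x ∈ V := mul_mem hv (nm_cj hx hv)
theorem cm_left {v w x : G} (hx : x ∈ NN V) (hv : v ∈ V) (hw : w ∈ V) : cm (v * w) x = cm v x * cm w x := by
  rw [cm, cm, cm, ← conj_mul, (EA.com c.ea hw (nm_cj hx hv)).mul_mul_mul_comm]
theorem cm_D {v x d : G} (hv : v ∈ V) (hd : d ∈ CC V) : cm v (x * d) = cm v x := by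
  rw [cm_mul (EA.sq c.ea hv), (cm_eq_one (EA.sq c.ea hv)).2 (mem_CC.1 hd v hv)]; group
theorem cm_D' {v x d : G} (hx : x ∈ NN V) (hv : v ∈ V) (hd : d ∈ CC V) : cm v (d * x) = cm v x := by
  rw [show d * x = x * (x⁻¹ * d * x) by group, c.cm_D hv (nm_cj' (KD hx) hd)]
theorem cm_com {v x : G} (hx : x ∈ NN V) (x2 : x * x ∈ CC V) (hv : v ∈ V) : Commute (cm v x) x := of_cj (by
  rw [cm, ← conj_mul, show x * (x * v * x⁻¹) * x⁻¹ = x * x * v * (x * x)⁻¹ by group, cj_of (mem_CC.1 x2 v hv),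
    (EA.com c.ea hv (nm_cj hx hv)).eq])
theorem baer {x : G} (hx : x ∈ NN V) (x2 : x * x ∈ CC V) (xD : x ∉ CC V) :
    ∃ k ∈ NN V, ¬ ∃ n, (x * (k * x * k⁻¹)) ^ 2 ^ n = 1 := EPC.baer KD c.pD c.core hx x2 xD
omit c in
theorem Wx_cj {k x : G} (hk : k ∈ NN V) : Wx V (k * x * k⁻¹) = Nine.cj k (Wx V x) := by
  ext v
  rw [Nine.mem_cj, mem_Wx, mem_Wx]
  exact ⟨fun h => ⟨nm_cj' hk h.1, by simpa [mul_assoc] using com_cj k⁻¹ h.2⟩,
    fun h => ⟨by simpa [mul_assoc] using nm_cj hk h.1, by simpa [mul_assoc] using com_cj k h.2⟩⟩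

theorem card_Wx {x : G} (hx : x ∈ NN V) (x2 : x * x ∈ CC V) (xD : x ∉ CC V) :
    Nat.card (Wx V x) ^ 2 = Nat.card V ∧ ∀ w ∈ Wx V x, ∃ v ∈ V, cm v x = w := by
  obtain ⟨k, hk, hn⟩ := c.baer hx x2 xD
  obtain ⟨R, h1, h2⟩ := hom_card (X := V) (Y := Wx V x) (cm · x) (fun a ha b hb => c.cm_left hx ha hb)
    fun a => mem_Wx.trans (and_congr_right fun ha => (cm_eq_one (EA.sq c.ea ha)).symm)
  have h3 : R ≤ Wx V x := fun r hr => by
    obtain ⟨v, hv, rfl⟩ := (h1 r).1 hr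
    exact mem_Wx.2 ⟨cm_mem hx hv, c.cm_com hx x2 hv⟩
  have h4 := card_mul_le (A := Wx V x) (B := Wx V (k * x * k⁻¹)) (E := V) inf_le_left inf_le_left
  rw [show Wx V x ⊓ Wx V (k * x * k⁻¹) = ⊥ from (eq_bot_iff_forall _).2 fun v hv =>
    c.fix hn (c.VS (mem_Wx.1 hv.1).1) ((mem_Wx.1 hv.1).2.mul_right (mem_Wx.1 hv.2).2).symm, card_bot, one_mul,
    Wx_cj hk, Nine.card_cj, h2] at h4
  have e := eq_of_le_of_card_ge h3 (Nat.le_of_mul_le_mul_left h4 Nat.card_pos)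
  exact ⟨by rw [h2, e, pow_two], fun w hw => (h1 w).1 (e ▸ hw)⟩

/-- Thompson replacement -/
theorem exists_quad : ∃ B, Cf S V B ∧ ∀ v ∈ V, ∀ a ∈ B, ∀ b ∈ B, Commute (cm v a) b := by
  obtain ⟨B, ⟨hB, nB⟩, hm⟩ := Set.exists_max_image {B : Subgroup G | MaxEA 2 S B ∧ ¬ B ≤ CC V}
    (fun B => Nat.card ↥(B ⊓ V)) (Set.toFinite _) ⟨A, c.mA, c.nD⟩
  refine ⟨B, { c with mA := hB, nD := nB }, fun v hv => by_contra fun hc => ?_⟩
  have BK : B ≤ NN V := hB.1.trans c.SK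
  have v2 := EA.sq c.ea hv
  let M := closure {m | ∃ a ∈ B, m = cm v a}
  have MV : M ≤ V := (closure_le V).2 (by rintro _ ⟨a, ha, rfl⟩; exact cm_mem (BK ha) hv)
  have fM : ∀ a ∈ B, cm v a ∈ M := fun a ha => subset_closure ⟨a, ha, rfl⟩
  have fa : ∀ a ∈ B, a * cm v a * a⁻¹ = cm v a := fun a ha =>
    cj_of (c.cm_com (BK ha) (by rw [EA.sq hB.2.1 ha]; exact one_mem _) hv)
  have ea := EA.sup (EA.le c.ea MV) (EA.le hB.2.1 (inf_le_left : B ⊓ CC M ≤ B))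
    fun m hm b hb => (mem_CC.1 hb.2 m hm).symm
  have hle : M ⊔ B ⊓ CC M ≤ S := sup_le (MV.trans c.VS) (inf_le_left.trans hB.1)
  let g : B → M ⧸ (M ⊓ CC B).subgroupOf M := fun a => QuotientGroup.mk ⟨cm v a, fM a a.2⟩
  have key : ∀ a b : B, g a = g b → (a : G)⁻¹ * b ∈ B ⊓ CC M := fun a b e => by
    have e1 : (cm v a)⁻¹ * cm v b ∈ CC B := (QuotientGroup.eq.1 e).2
    have e2 : cm v (a * b) = (cm v a)⁻¹ * cm v b := by
      rw [cm_mul v2, ← mul_inv_cancel_left (cm v a) (cm v b), ← conj_mul, fa a a.2, cj_of (mem_CC.1 e1 a a.2).symm,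
        ← mul_assoc, EA.sq c.ea (MV (fM a a.2)), one_mul, mul_inv_cancel_left]
    rw [EA.inv hB.2.1 a.2]
    refine ⟨mul_mem a.2 b.2, mem_CC.2 fun m hm => (mem_CC.1 ((closure_le (CC (zpowers ((a : G) * b)))).2 ?_ hm) _
      (mem_zpowers _)).symm⟩
    rintro _ ⟨x, hx, rfl⟩
    refine mem_CC.2 ?_
    rintro _ ⟨k, rfl⟩
    refine (Commute.zpow_right (of_cj (mul_left_cancel (a := cm v (a * b)) ?_)) k).symm
    rw [← cm_mul v2, (EA.com hB.2.1 (mul_mem a.2 b.2) hx).eq, cm_mul v2 x, e2, cj_of (mem_CC.1 e1 x hx).symm]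
    exact EA.com c.ea (MV (fM x hx)) (MV (mul_mem (inv_mem (fM a a.2)) (fM b b.2)))
  have h1 := Nat.card_le_card_of_injective (fun a : B => ((g a, ⟨_, key _ _ (Function.invFun_eq ⟨a, rfl⟩)⟩) :
    _ × ↥(B ⊓ CC M))) fun a b e => by
      have e1 : g a = g b := congrArg Prod.fst e
      have e2 := congrArg (fun p => (p.2 : G)) e
      simp only [e1] at e2
      exact Subtype.ext (mul_left_cancel e2)
  have h2 := ((M ⊓ CC B).subgroupOf M).card_mul_index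
  rw [Nat.card_congr (subgroupOfEquivOfLe inf_le_left).toEquiv] at h2
  rw [Nat.card_prod, ← index] at h1
  have h3 := card_mul_le (A := M) (B := B ⊓ CC M) (E := M ⊔ B ⊓ CC M) le_sup_left le_sup_right
  have h4 := card_le_of_le (show M ⊓ (B ⊓ CC M) ≤ M ⊓ CC B from fun x hx =>
    ⟨hx.1, mem_CC.2 fun b hb => EA.com hB.2.1 hb hx.2.1⟩)
  have h5 : Nat.card B ≤ Nat.card ↥(M ⊔ B ⊓ CC M) := by
    refine h1.trans (Nat.le_of_mul_le_mul_left ?_ (Nat.card_pos (α := ↥(M ⊓ CC B))))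
    rw [← mul_assoc, h2]; exact h3.trans (Nat.mul_le_mul_right _ h4)
  have mx : MaxEA 2 S (M ⊔ B ⊓ CC M) := ⟨hle, ea, fun X h h' => (hB.2.2 X h h').trans h5⟩
  have nM : ¬ M ≤ B := fun e => hc fun a ha b hb => EA.com hB.2.1 (e (fM a ha)) hb
  refine absurd (hm _ ⟨mx, fun hD => ?_⟩) (not_le.2 (card_lt_of_lt (lt_of_le_of_ne (fun x hx =>
    ⟨mem_sup_right ⟨hx.1, mem_CC.2 fun m hm => EA.com c.ea (MV hm) hx.2⟩, hx.2⟩)
    fun e => nM fun m hm => (e.ge ⟨mem_sup_left hm, MV hm⟩).1)))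
  have h6 := eq_of_le_of_card_ge (le_sup_left : _ ≤ (M ⊔ B ⊓ CC M) ⊔ V) (mx.2.2 _ (sup_le hle c.VS)
    (EA.sup ea c.ea fun a ha b hb => mem_CC.1 (hD ha) b hb))
  obtain ⟨m, hm, b, hb, e⟩ := (mem_sup_nm (MV.trans (fun x hx => DK (mem_CC.2 fun y hy =>
    (mem_CC.1 (hD (mem_sup_right hy)) x hx).symm)))).1 (h6.ge (mem_sup_right hv))
  have bV : b ∈ V := by rw [eq_inv_mul_of_mul_eq e.symm]; exact mul_mem (inv_mem (MV hm)) hv
  obtain ⟨n, hn⟩ := (isNilpotent_iff_lowerCentralSeries S).1 c.pS.isNilpotent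
  have : ∀ n, M ≤ S.lowerCentralSeries n := fun n => by
    induction n with
    | zero => exact MV.trans c.VS
    | succ n ih =>
      refine (closure_le _).2 ?_
      rintro _ ⟨a, ha, rfl⟩
      rw [e, c.cm_left (BK ha) (MV hm) bV, (cm_eq_one (EA.sq c.ea bV)).2 (EA.com hB.2.1 hb.1 ha), mul_one, cm]
      have := commutator_mem_commutator (ih hm) (hB.1 ha)
      rw [commutatorElement_def, EA.inv c.ea (MV hm)] at this
      simpa [mul_assoc] using this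
  exact nM ((hn ▸ this n).trans bot_le)

end Cf

end Cfsg.Agent.EPC
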