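import Cfsg.Agent.Lib.EPC.Mod

/-!
# Quadratic offenders: `V` is a natural module
-/

set_option autoImplicit false
set_option linter.unusedSectionVars false

namespace Cfsg.Agent.EPC

open Subgroup R3 EPO Nine

universe u

variable {G : Type u} [Group G]

theorem exists_pow_sq {X : Subgroup G} {g : G} (hg : g ∉ X) (h : ∃ n, g ^ 2 ^ n = 1) :
    ∃ k : ℕ, g ^ k ∉ X ∧ g ^ k * g ^ k ∈ X := by
  classical
  have h' : ∃ n, g ^ 2 ^ n ∈ X := h.imp fun n e => by rw [e]; exact one_mem X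
  obtain ⟨m, hm⟩ := Nat.exists_eq_succ_of_ne_zero (n := Nat.find h') fun e => hg (by simpa [e] using Nat.find_spec h')
  exact ⟨2 ^ m, Nat.find_min h' (by omega), by
    have := Nat.find_spec h'; rwa [hm, Nat.pow_succ, pow_mul, pow_two] at this⟩

theorem exists_cent [Finite G] {D X Y : Subgroup G} (hY : IsPGroup 2 Y) (hX : X ≤ Y) (hD : Y ≤ NN D) (hN : Y ≤ NN X)
    (h : ¬ X ≤ D) : ∃ z ∈ X, z ∉ D ∧ z * z ∈ D ∧ ∀ y ∈ Y, z * y * z⁻¹ * y⁻¹ ∈ D := by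
  classical
  let Z : Subgroup G :=
    { carrier := {z | z ∈ Y ∧ ∀ y ∈ Y, z * y * z⁻¹ * y⁻¹ ∈ D}
      one_mem' := ⟨one_mem _, fun y _ => by simp⟩
      mul_mem' := fun {z w} hz hw => ⟨mul_mem hz.1 hw.1, fun y hy => by
        convert mul_mem (nm_cj (hD hz.1) (hw.2 y hy)) (hz.2 y hy) using 1; group⟩
      inv_mem' := fun {z} hz => ⟨inv_mem hz.1, fun y hy => by
        convert nm_cj' (hD hz.1) (inv_mem (hz.2 y hy)) using 1; group⟩ }
  let L : ℕ → Subgroup G := fun n => Nat.rec X (fun _ H => ⁅H, Y⁆) n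
  have h1 : ∀ n, L n ≤ X ∧ L n ≤ Y.lowerCentralSeries n := fun n => by
    induction n with
    | zero => exact ⟨le_rfl, hX⟩
    | succ n ih =>
      refine ⟨commutator_le.2 fun a ha b hb => ?_, commutator_mono ih.2 le_rfl⟩
      convert mul_mem (ih.1 ha) (nm_cj (hN hb) (inv_mem (ih.1 ha))) using 1
      rw [commutatorElement_def]; group
  obtain ⟨n, hn⟩ := (isNilpotent_iff_lowerCentralSeries Y).1 hY.isNilpotent
  obtain ⟨m, hm, h3⟩ : ∃ m, ¬ L m ≤ D ∧ L (m + 1) ≤ D := by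
    by_contra hc
    push Not at hc
    have : ∀ m, ¬ L m ≤ D := fun m => Nat.rec h hc m
    exact this n ((hn ▸ (h1 n).2).trans bot_le)
  obtain ⟨z, hz, zD⟩ := SetLike.not_le_iff_exists.1 hm
  obtain ⟨k, k1, k2⟩ := exists_pow_sq zD (pow_of_mem hY (hX ((h1 m).1 hz)))
  exact ⟨_, pow_mem ((h1 m).1 hz) k, k1, k2, (Z.pow_mem
    ⟨hX ((h1 m).1 hz), fun y hy => h3 (commutator_mem_commutator hz hy)⟩ k).2⟩

theorem mem_cj' {g y : G} {K : Subgroup G} : g * y * g⁻¹ ∈ cj g K ↔ y ∈ K := by rw [mem_cj]; simp [mul_assoc]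
theorem mem_CC_cj {g y : G} {K : Subgroup G} : y ∈ CC (cj g K) ↔ g⁻¹ * y * g ∈ CC K := by
  rw [mem_CC, mem_CC]
  exact ⟨fun h v hv => by simpa [mul_assoc] using com_cj g⁻¹ (h _ (mem_cj'.2 hv)),
    fun h v hv => by simpa [mul_assoc] using com_cj g (h _ (mem_cj.1 hv))⟩
theorem EA.cj {A : Subgroup G} (h : EA 2 A) (g : G) : EA 2 (cj g A) :=
  ⟨fun x hx y hy => by simpa [mul_assoc] using (com_cj g (EA.com h (mem_cj.1 hx) (mem_cj.1 hy))).eq,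
    fun x hx => by
      have := h.2 _ (mem_cj.1 hx)
      rw [show g⁻¹ * x * g = g⁻¹ * x * g⁻¹⁻¹ by simp, conj_pow] at this
      exact conj_eq_one_iff.1 this⟩

theorem Cf.cj [Finite G] {S V A : Subgroup G} (c : Cf S V A) (g : G) : Cf (cj g S) (cj g V) (cj g A) where
  ep := c.ep
  ea := EA.cj c.ea g
  ne := cj_ne_bot c.ne
  core := fun W h1 h2 h3 x hx => mem_CC_cj.2 (c.core (Nine.cj g⁻¹ W)
    (fun y hy => by simpa [mul_assoc] using mem_Nm_cj.1 (h1 (mem_cj.1 hy))) (h2.map _)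
    (fun y hy => mem_Nm_cj.2 (h3 (mem_Nm_cj.2 (by simpa [mul_assoc] using hy)))) (mem_cj.2 (by simpa [mul_assoc] using hx)))
  SK := fun x hx => mem_Nm_cj.2 (c.SK (mem_cj.1 hx))
  pS := c.pS.map _
  max := fun X h1 h2 => by
    rw [card_cj, ← card_cj g⁻¹ X]
    exact c.max _ (fun y hy => by simpa [mul_assoc] using mem_Nm_cj.1 (h1 (mem_cj.1 hy))) (h2.map _)
  mA := maxEA_conj g (fun _ => mem_cj'.symm) c.mA
  nD := fun h => c.nD fun x hx => by simpa [mul_assoc] using mem_CC_cj.1 (h (mem_cj'.2 hx))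

/-- configuration with a quadratic offender -/
structure Qd (S V A : Subgroup G) : Prop extends Cf S V A where
  quad : ∀ v ∈ V, ∀ a ∈ A, ∀ b ∈ A, Commute (cm v a) b

/-- fixed points of `A` in `V` -/
def WW (V A : Subgroup G) : Subgroup G := V ⊓ CC A

theorem mem_WW {V A : Subgroup G} {w : G} : w ∈ WW V A ↔ w ∈ V ∧ ∀ a ∈ A, Commute a w := and_congr Iff.rfl mem_CC

namespace Qd

variable [Finite G] {S V A S' A' : Subgroup G} (c : Qd S V A)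
include c

theorem cj (g : G) : Qd (cj g S) (cj g V) (cj g A) := ⟨c.toCf.cj g, fun v hv a ha b hb => by
  have := com_cj g (c.quad _ (mem_cj.1 hv) _ (mem_cj.1 ha) _ (mem_cj.1 hb))
  rw [← cm_cj] at this
  simpa [mul_assoc] using this⟩
theorem cj' {g : G} (hg : g ∈ NN V) : Qd (Nine.cj g S) V (Nine.cj g A) := by
  have := c.cj g
  rwa [cj_eq_iff.2 hg] at this
theorem eA : EA 2 A := c.mA.2.1
theorem a2 {a : G} (ha : a ∈ A) : a * a ∈ CC V := by rw [EA.sq c.eA ha]; exact one_mem _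
theorem cm_W {v a : G} (hv : v ∈ V) (ha : a ∈ A) : cm v a ∈ WW V A :=
  mem_WW.2 ⟨Cf.cm_mem (c.AK ha) hv, fun b hb => (c.quad v hv a ha b hb).symm⟩
theorem Wx_eq {a : G} (ha : a ∈ A) (aD : a ∉ CC V) : Wx V a = WW V A :=
  le_antisymm (fun w hw => by
    obtain ⟨v, hv, rfl⟩ := (c.card_Wx (c.AK ha) (c.a2 ha) aD).2 w hw
    exact c.cm_W hv ha) fun w hw => mem_Wx.2 ⟨hw.1, ((mem_WW.1 hw).2 a ha).symm⟩
theorem exA : ∃ a ∈ A, a ∉ CC V := SetLike.not_le_iff_exists.1 c.nD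
theorem exV : ∃ v ∈ V, v ∉ WW V A := by
  by_contra h; push Not at h
  exact c.nD fun a ha => mem_CC.2 fun v hv => ((mem_WW.1 (h v hv)).2 a ha).symm
theorem card_W : Nat.card (WW V A) ^ 2 = Nat.card V := by
  obtain ⟨a, ha, aD⟩ := c.exA
  rw [← c.Wx_eq ha aD, (c.card_Wx (c.AK ha) (c.a2 ha) aD).1]
theorem exW : ∃ w ∈ WW V A, w ≠ 1 := by
  by_contra h; push Not at h
  have := c.card_W
  rw [(eq_bot_iff_forall _).2 h, card_bot] at this
  exact c.ne (eq_bot_of_card_le _ this.ge)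
theorem onto {a w : G} (ha : a ∈ A) (aD : a ∉ CC V) (hw : w ∈ WW V A) : ∃ v ∈ V, cm v a = w :=
  (c.card_Wx (c.AK ha) (c.a2 ha) aD).2 w (c.Wx_eq ha aD ▸ hw)
theorem nd {v a : G} (hv : v ∈ V) (vW : v ∉ WW V A) (ha : a ∈ A) (h : Commute v a) : a ∈ CC V :=
  by_contra fun aD => vW (c.Wx_eq ha aD ▸ mem_Wx.2 ⟨hv, h⟩)

theorem reg' {v : G} (hv : v ∈ V) (vW : v ∉ WW V A) : (∀ w ∈ WW V A, ∃ a ∈ A, cm v a = w) ∧
    Nat.card A = Nat.card ↥(A ⊓ CC V) * Nat.card (WW V A) ∧ WW V A ≤ A := by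
  have v2 := EA.sq c.ea hv
  obtain ⟨R, h1, h2⟩ := hom_card (X := A) (Y := A ⊓ CC V) (cm v)
    (fun a ha b hb => by rw [cm_mul v2, cj_of (c.quad v hv b hb a ha)])
    fun a => and_congr_right fun ha => ⟨fun h => (cm_eq_one v2).2 (mem_CC.1 h v hv),
      fun h => c.nd hv vW ha ((cm_eq_one v2).1 h)⟩
  have h3 : R ≤ WW V A := fun r hr => by
    obtain ⟨a, ha, rfl⟩ := (h1 r).1 hr
    exact c.cm_W hv ha
  have h4 := (card_mul_le (A := A ⊓ CC V) (B := V) le_sup_left le_sup_right).trans (Nat.mul_le_mul_left _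
    (c.mA.2.2 _ (sup_le (inf_le_left.trans c.mA.1) c.VS)
      (EA.sup (EA.le c.eA inf_le_left) c.ea fun a ha b hb => mem_CC.1 ha.2 b hb)))
  have h5 : A ⊓ CC V ⊓ V ≤ WW V A := fun x hx => mem_WW.2 ⟨hx.2, fun a ha => EA.com c.eA ha hx.1.1⟩
  rw [h2, ← c.card_W, mul_left_comm, pow_two] at h4
  have h6 := Nat.le_of_mul_le_mul_left h4 Nat.card_pos
  have h7 := card_le_of_le h3
  have h8 := card_le_of_le h5
  have e1 := eq_of_le_of_card_ge h3 (Nat.le_of_mul_le_mul_left (h6.trans (Nat.mul_le_mul_right _ h8)) Nat.card_pos)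
  have e2 := eq_of_le_of_card_ge h5 (Nat.le_of_mul_le_mul_right (h6.trans (Nat.mul_le_mul_left _ h7)) Nat.card_pos)
  exact ⟨fun w hw => (h1 w).1 (e1 ▸ hw), e1 ▸ h2, fun x hx => (e2.ge hx).1.1⟩
theorem reg {v w : G} (hv : v ∈ V) (vW : v ∉ WW V A) (hw : w ∈ WW V A) : ∃ a ∈ A, cm v a = w :=
  (c.reg' hv vW).1 w hw
theorem WA : WW V A ≤ A := by obtain ⟨v, hv, vW⟩ := c.exV; exact (c.reg' hv vW).2.2

theorem exists_opp0 : ∃ S' A', Qd S' V A' ∧ WW V A ⊓ WW V A' = ⊥ := by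
  obtain ⟨a, ha, aD⟩ := c.exA
  obtain ⟨k, hk, hn⟩ := c.baer (c.AK ha) (c.a2 ha) aD
  exact ⟨_, _, c.cj' hk, (eq_bot_iff_forall _).2 fun v hv => c.fix hn (c.VS hv.1.1)
    (((mem_WW.1 hv.1).2 a ha).mul_left ((mem_WW.1 hv.2).2 _ (mem_cj'.2 ha)))⟩

theorem split (c' : Qd S' V A') (h : WW V A ⊓ WW V A' = ⊥) {v : G} (hv : v ∈ V) :
    ∃ w ∈ WW V A, ∃ x ∈ WW V A', v = w * x := by
  have h1 := card_mul_le (A := WW V A) (B := WW V A') le_sup_left le_sup_right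
  rw [h, card_bot, one_mul, ← Nat.pow_left_injective two_ne_zero (c.card_W.trans c'.card_W.symm), ← pow_two,
    c.card_W] at h1
  exact (mem_sup_nm (A := WW V A) (B := WW V A')
    fun x hx => centralizer_le_normalizer _ (mem_CC.2 fun y hy => EA.com c.ea hy.1 hx.1)).1
    ((eq_of_le_of_card_ge (sup_le inf_le_left inf_le_left) h1).ge hv)

theorem exists_opp {v : G} (hv : v ∈ V) (vW : v ∉ WW V A) :
    ∃ S' A', Qd S' V A' ∧ WW V A ⊓ WW V A' = ⊥ ∧ v ∈ WW V A' := by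
  obtain ⟨S', A', c', h⟩ := c.exists_opp0
  obtain ⟨w, hw, x, hx, rfl⟩ := c.split c' h hv
  obtain ⟨b, hb, e⟩ := c.reg hx.1 (fun h => vW (mul_mem hw h)) hw
  refine ⟨_, _, c'.cj' (c.AK hb), (eq_bot_iff_forall _).2 fun u hu => ?_, hv, mem_CC_cj.2 ?_⟩
  · have := mem_CC_cj.1 hu.2.2
    rw [show b⁻¹ * u * b = u by simpa using cj_of ((mem_WW.1 hu.1).2 _ (inv_mem hb)).symm] at this
    exact (eq_bot_iff_forall _).1 h u ⟨hu.1, hu.1.1, this⟩
  · rw [(EA.com c.ea hw.1 hx.1).eq, ← e, ← cj_cm (EA.sq c.ea hx.1)]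
    simpa [mul_assoc] using hx.2

theorem not_two (c' : Qd S' V A') (h : WW V A ⊓ WW V A' = ⊥) {a a' : G} (ha : a ∈ A) (aD : a ∉ CC V)
    (ha' : a' ∈ A') (aD' : a' ∉ CC V) : ¬ ∃ n, (a * a') ^ 2 ^ n = 1 := by
  rintro ⟨n, hn⟩
  obtain ⟨E, h1, h2, h3, h4⟩ := dihedral_two c.pD (Cf.KD (c.AK ha)) (Cf.KD (c'.AK ha')) (c.a2 ha) (c'.a2 ha') hn
  obtain ⟨z, hz, z1, -, hc⟩ := exists_cent (D := ⊥) (X := V) (Y := E ⊓ NN V) h1.to_inf_left
    (le_inf (c.VD.trans h2) le_normalizer) (fun x _ => nm_of fun y hy => by simp [mem_bot.1 hy]) inf_le_right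
    (by simpa using c.ne)
  have k : ∀ y ∈ E ⊓ NN V, Commute z y := fun y hy => commutatorElement_eq_one_iff_commute.1 (mem_bot.1 (hc y hy))
  exact z1 (h ▸ ⟨c.Wx_eq ha aD ▸ mem_Wx.2 ⟨hz, k a ⟨h3, c.AK ha⟩⟩, c'.Wx_eq ha' aD' ▸ mem_Wx.2 ⟨hz, k a' ⟨h4, c'.AK ha'⟩⟩⟩)

theorem tri (c' : Qd S' V A') (h : WW V A ⊓ WW V A' = ⊥) {a : G} (ha : a ∈ A) (aD : a ∉ CC V) :
    ∃ a' ∈ A', a' ∉ CC V ∧ (a * a') ^ 3 = 1 := by
  obtain ⟨x, hx, x1⟩ := c'.exW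
  have x2 := EA.sq c.ea hx.1
  have hw := c.cm_W hx.1 ha
  have w2 := EA.sq c.ea hw.1
  have w1 : cm x a ≠ 1 := fun e => x1 ((eq_bot_iff_forall _).1 h x
    ⟨c.Wx_eq ha aD ▸ mem_Wx.2 ⟨hx.1, (cm_eq_one x2).1 e⟩, hx⟩)
  obtain ⟨a', ha', e⟩ := c'.reg hw.1 (fun h' => w1 ((eq_bot_iff_forall _).1 h _ ⟨hw, h'⟩)) hx
  have aD' : a' ∉ CC V := fun h' => x1 (e ▸ (cm_eq_one w2).2 (mem_CC.1 h' _ hw.1))
  refine ⟨a', ha', aD', by_contra fun h3 => ?_⟩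
  have e1 := cj_cm x2 a
  have e2 := cj_cm w2 a'
  have e3 := cj_of ((mem_WW.1 hw).2 a ha).symm
  have e4 := cj_of ((mem_WW.1 hx).2 a' ha').symm
  rw [e] at e2
  generalize cm x a = w at *
  have k : ∀ u, a * a' * u * (a * a')⁻¹ = a * (a' * u * a'⁻¹) * a⁻¹ := fun u => by group
  have f1 : a * a' * x * (a * a')⁻¹ = x * w := by rw [k, e4, e1]
  have f2 : a * a' * w * (a * a')⁻¹ = x := by
    rw [k, e2, ← conj_mul, e3, e1, (EA.com c.ea hx.1 hw.1).eq, ← mul_assoc, w2, one_mul]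
  have f3 : a * a' * (x * w) * (a * a')⁻¹ = w := by
    rw [← conj_mul, f1, f2, (EA.com c.ea hx.1 hw.1).eq, mul_assoc, x2, mul_one]
  obtain ⟨n, hn⟩ := c.two_of x1 x2 (x := (a * a') ^ 3) (of_cj (by
    calc _ = a * a' * (a * a' * (a * a' * x * (a * a')⁻¹) * (a * a')⁻¹) * (a * a')⁻¹ := by
          simp only [pow_succ]; group
      _ = _ := by rw [f1, f3, f2]))
  exact c.not_two c' h ha aD ha' aD' (c.ep.comm Nat.prime_two ((Commute.refl _).pow_left 3) h3 hn)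

theorem inf_D : A ⊓ CC V = WW V A := by
  obtain ⟨S', A', c', h⟩ := c.exists_opp0
  obtain ⟨a, ha, aD⟩ := c.exA
  obtain ⟨a', ha', aD', h3⟩ := c.tri c' h ha aD
  have nt := c.not_two c' h ha aD ha' aD'
  have F : Fpf (a * a') (CC V) := ⟨h3, nz_of_mem (Cf.KD (mul_mem (c.AK ha) (c'.AK ha'))),
    fun k hk e => c.fix nt (c.DS hk) e⟩
  have ia := EA.inv c.eA ha
  have ia' := EA.inv c'.eA ha'
  have k1 : ∀ d ∈ A ⊓ CC V, a * a' * d * (a * a')⁻¹ = d * (a' * d * a'⁻¹) := fun d hd => by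
    have := F.prod hd.2
    rw [show (a * a')⁻¹ * d * (a * a') = a'⁻¹ * (a⁻¹ * d * a⁻¹⁻¹) * a' by group,
      cj_of (EA.com c.eA hd.1 (inv_mem ha)), mul_assoc] at this
    rw [eq_mul_inv_of_mul_eq (eq_inv_of_mul_eq_one_right this)]
    simp [mul_assoc, ia', EA.inv c.eA hd.1]
  have k2 : ∀ d ∈ A ⊓ CC V, ∀ e ∈ Nine.cj a' (A ⊓ CC V), Commute e d := fun d hd e he => by
    obtain ⟨f, he', rfl⟩ : ∃ f ∈ A ⊓ CC V, e = a' * f * a'⁻¹ := ⟨_, mem_cj.1 he, by group⟩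
    have := k1 _ (mul_mem he' hd)
    rw [← conj_mul, k1 _ he', k1 _ hd,
      show a' * (f * d) * a'⁻¹ = a' * f * a'⁻¹ * (a' * d * a'⁻¹) by group] at this
    generalize a' * f * a'⁻¹ = x, a' * d * a'⁻¹ = y at this
    rwa [mul_assoc, mul_assoc, mul_right_inj, ← mul_assoc, ← mul_assoc d, mul_left_inj] at this
  have h4 := (card_mul_le (A := A ⊓ CC V) (B := Nine.cj a' (A ⊓ CC V)) le_sup_left le_sup_right).trans
    (Nat.mul_le_mul_left _ (c.mA.2.2 _ (sup_le (inf_le_left.trans c.mA.1) fun x hx => c.DS (by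
      simpa [mul_assoc] using nm_cj (Cf.KD (c'.AK ha')) (mem_cj.1 hx).2))
      (EA.sup (EA.le c.eA inf_le_left) (EA.cj (EA.le c.eA inf_le_left) a') k2)))
  obtain ⟨v, hv, vW⟩ := c.exV
  rw [show A ⊓ CC V ⊓ Nine.cj a' (A ⊓ CC V) = ⊥ from (eq_bot_iff_forall _).2 fun x hx => F.fpf x hx.1.2 (by
    have h5 : Commute (a * a' * (a * a')) x := by
      have := (EA.com c.eA ha hx.1.1).mul_left (com_cj a' (EA.com c.eA ha (mem_cj.1 hx.2).1) |>.symm |> fun t =>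
        (show Commute x (a' * a * a'⁻¹) by simpa [mul_assoc] using t).symm)
      simpa [ia', mul_assoc] using this
    have := h5.mul_left h5
    rwa [show a * a' * (a * a') * (a * a' * (a * a')) = (a * a') ^ 3 * (a * a') by simp only [pow_succ]; group,
      h3, one_mul] at this), card_bot, one_mul, card_cj, (c.reg' hv vW).2.1] at h4
  exact (eq_of_le_of_card_ge (le_inf c.WA (inf_le_left.trans c.VD)) (Nat.le_of_mul_le_mul_left h4 Nat.card_pos)).symm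

theorem card_A : Nat.card A = Nat.card V := by
  obtain ⟨v, hv, vW⟩ := c.exV
  rw [(c.reg' hv vW).2.1, c.inf_D, ← c.card_W, pow_two]
theorem mV : MaxEA 2 S V := ⟨c.VS, c.ea, fun B h h' => c.card_A ▸ c.mA.2.2 B h h'⟩
theorem inv_D {d : G} (hd : d ∈ CC V) (h : d * d = 1) : d ∈ V := by
  have e : EA 2 (zpowers d) := ⟨by rintro _ ⟨i, rfl⟩ _ ⟨j, rfl⟩; exact (Commute.refl d).zpow_zpow i j, by
    rintro _ ⟨i, rfl⟩; simp only; rw [pow_two, ← (Commute.refl d).mul_zpow, h, one_zpow]⟩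
  exact (eq_of_le_of_card_ge le_sup_right (c.mV.2.2 _ (sup_le (zpowers_le.2 (c.DS hd)) c.VS)
    (EA.sup e c.ea fun a ha b hb => mem_CC.1 (zpowers_le.2 hd ha) b hb))).ge (mem_sup_left (mem_zpowers d))

end Qd

end Cfsg.Agent.EPC
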