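import Cfsg.Agent.Lib.EPC.Qd

/-!
# The Sylow subgroup of the normalizer is `A C(V)`
-/

set_option autoImplicit false
set_option linter.unusedSectionVars false

namespace Cfsg.Agent.EPC

open Subgroup R3 EPO Nine

universe u

variable {G : Type u} [Group G]

theorem com_D {V : Subgroup G} {u d y : G} (hu : u ∈ V) (hd : d ∈ CC V) (h : Commute u (d * y)) : Commute u y := by
  simpa using (mem_CC.1 (inv_mem hd) u hu).mul_right h

namespace Qd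

variable [Finite G] {S V A S' A' : Subgroup G} (c : Qd S V A)
include c

theorem of_big {x v : G} (hx : x ∈ NN V) (x2 : x * x ∈ CC V) (hW : ∀ w ∈ WW V A, Commute w x) (hv : v ∈ V)
    (vW : v ∉ WW V A) (h : Commute v x) : x ∈ CC V := by
  by_contra xD
  have h1 : WW V A ≤ Wx V x := fun w hw => mem_Wx.2 ⟨hw.1, hW w hw⟩
  exact vW ((eq_of_le_of_card_ge h1 (Nat.pow_left_injective two_ne_zero
    ((c.card_Wx hx x2 xD).1.trans c.card_W.symm)).le).ge (mem_Wx.2 ⟨hv, h⟩))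

theorem L6a {x : G} (hx : x ∈ NN V) (x2 : x * x ∈ CC V) (h : ∀ a ∈ A, x * a * x⁻¹ * a⁻¹ ∈ CC V) :
    ∃ b ∈ A, b * x ∈ CC V := by
  obtain ⟨v, hv, vW, hm⟩ : ∃ v ∈ V, v ∉ WW V A ∧ cm v x ∈ WW V A := by
    by_cases h : ∃ u ∈ V, cm u x ∉ WW V A
    · obtain ⟨u, hu, h⟩ := h
      refine ⟨_, Cf.cm_mem hx hu, h, ?_⟩
      rw [(cm_eq_one (EA.sq c.ea (Cf.cm_mem hx hu))).2 (c.cm_com hx x2 hu)]
      exact one_mem _
    · push Not at h
      obtain ⟨v, hv, vW⟩ := c.exV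
      exact ⟨v, hv, vW, h v hv⟩
  obtain ⟨b, hb, e⟩ := c.reg hv vW hm
  have v2 := EA.sq c.ea hv
  have k : Commute v (b * x) := (cm_eq_one v2).1 (by
    rw [cm_mul v2, cj_of ((mem_WW.1 hm).2 b hb).symm, e, EA.sq c.ea hm.1])
  refine ⟨b, hb, c.of_big (mul_mem (c.AK hb) hx) ?_ (fun w hw => ?_) hv vW k⟩
  · rw [show b * x * (b * x) = b * (x * b * x⁻¹ * b⁻¹) * b⁻¹ * (b * b) * (x * x) by group]
    exact mul_mem (mul_mem (nm_cj (Cf.KD (c.AK hb)) (h b hb)) (c.a2 hb)) x2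
  · obtain ⟨a, ha, rfl⟩ := c.reg hv vW hw
    refine k.mul_left (com_D (nm_cj (c.AK ha) hv) (nm_cj (Cf.KD (c.AK hb)) (inv_mem (h a ha))) ?_)
    convert com_cj a k using 1
    rw [← conj_mul, cj_of (EA.com c.eA hb ha)]; group

theorem cent {P : Subgroup G} (hP : IsPGroup 2 P) (hA : A ≤ P) (hK : P ≤ NN V) :
    ∃ a ∈ A, a ∉ CC V ∧ ∀ y ∈ P, y * a * y⁻¹ * a⁻¹ ∈ CC V := by
  obtain ⟨z, hz, zD, z2, hc⟩ := exists_cent (D := CC V) (X := P) hP le_rfl (hK.trans Cf.KD) le_normalizer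
    fun h => c.nD (hA.trans h)
  obtain ⟨b, hb, e⟩ := c.L6a (hK hz) z2 fun a ha => hc a (hA ha)
  refine ⟨b, hb, fun h => zD (by simpa using mul_mem (inv_mem h) e), fun y hy => ?_⟩
  convert mul_mem (mul_mem (nm_cj (Cf.KD (hK hy)) e) (nm_cj' (Cf.KD (hK hz)) (hc y hy))) (inv_mem e) using 1
  group

theorem S_nm : S ≤ NN (WW V A) := fun s hs => nm_of fun w hw => by
  obtain ⟨a, ha, aD, h⟩ := c.cent c.pS c.mA.1 c.SK
  rw [← c.Wx_eq ha aD] at hw ⊢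
  refine mem_Wx.2 ⟨nm_cj (c.SK hs) hw.1, com_D (nm_cj (c.SK hs) hw.1) (h s hs) ?_⟩
  simpa using com_cj s (mem_Wx.1 hw).2

theorem pC {v : G} (hv : v ∈ V) (v1 : v ≠ 1) : IsPGroup 2 (centralizer {v} : Subgroup G) :=
  isPGroup_of_pow fun x hx => c.two_of v1 (EA.sq c.ea hv) (mem_centralizer_iff.1 hx v rfl)

theorem L6 {s : G} (hs : s ∈ S) : ∃ b ∈ A, b * s ∈ CC V := by
  obtain ⟨v, hv, vW, -, hc⟩ := exists_cent (D := WW V A) (X := V) c.pS c.VS c.S_nm c.SK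
    (by obtain ⟨v, hv, vW⟩ := c.exV; exact fun h => vW (h hv))
  have v2 := EA.sq c.ea hv
  have hm : cm v s ∈ WW V A := by
    have := hc s hs
    rwa [mul_assoc, mul_assoc, ← mul_assoc s, EA.inv c.ea hv] at this
  obtain ⟨b, hb, e⟩ := c.reg hv vW hm
  have k : Commute v (b * s) := (cm_eq_one v2).1 (by
    rw [cm_mul v2, cj_of ((mem_WW.1 hm).2 b hb).symm, e, EA.sq c.ea hm.1])
  have hs' := mul_mem (c.mA.1 hb) hs
  refine ⟨b, hb, ?_⟩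
  generalize b * s = t at k hs'
  obtain ⟨S', A', c', h, hv'⟩ := c.exists_opp hv vW
  obtain ⟨a, ha, aD, h1⟩ := c.cent c.pS c.mA.1 c.SK
  obtain ⟨a', ha', aD', h2⟩ := c'.cent (P := centralizer {v} ⊓ NN V)
    (c.pC hv fun e => vW (e ▸ one_mem _)).to_inf_left
    (fun x hx => ⟨mem_centralizer_iff.2 fun y e => e ▸ ((mem_WW.1 hv').2 x hx).symm.eq, c'.AK hx⟩) inf_le_right
  have nt := c.not_two c' h ha aD ha' aD'
  obtain ⟨e, he, h3⟩ := lift (Cf.KD (mul_mem (c.AK ha) (c'.AK ha'))) (fun d hd => c.fix nt (c.DS hd))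
    (mul_mem (h1 t hs') (nm_cj (Cf.KD (c.AK ha)) (h2 t ⟨mem_centralizer_iff.2 fun y e => e ▸ k.eq, c.SK hs'⟩)))
  have := c.fix nt (mul_mem (inv_mem (c.DS he)) hs') (of_cj (by
    calc e⁻¹ * t * (a * a') * (e⁻¹ * t)⁻¹
        = e⁻¹ * (t * a * t⁻¹ * a⁻¹ * (a * (t * a' * t⁻¹ * a'⁻¹) * a⁻¹) * (a * a')) * e := by group
      _ = _ := by rw [← h3]; group))
  rwa [← inv_mul_eq_one.1 this]

theorem L6' {s : G} (hs : s ∈ S) : ∃ b ∈ A, ∃ d ∈ CC V, s = b * d := by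
  obtain ⟨b, hb, h⟩ := c.L6 hs
  exact ⟨b⁻¹, inv_mem hb, _, h, by group⟩
theorem S_W {s w : G} (hs : s ∈ S) (hw : w ∈ WW V A) : Commute w s := by
  obtain ⟨b, hb, d, hd, rfl⟩ := c.L6' hs
  exact ((mem_WW.1 hw).2 b hb).symm.mul_right (mem_CC.1 hd w hw.1)
theorem cm_S {s v : G} (hs : s ∈ S) (hv : v ∈ V) : cm v s ∈ WW V A := by
  obtain ⟨b, hb, d, hd, rfl⟩ := c.L6' hs
  rw [c.cm_D hv hd]; exact c.cm_W hv hb
theorem CW {x w : G} (hx : x ∈ NN V) (hw : w ∈ WW V A) (w1 : w ≠ 1) (h : Commute w x) : x ∈ S :=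
  c.le_S (X := centralizer {w} ⊓ NN V) inf_le_right (c.pC hw.1 w1).to_inf_left
    (fun s hs => ⟨mem_centralizer_iff.2 fun y e => e ▸ (c.S_W hs hw).eq, c.SK hs⟩)
    ⟨mem_centralizer_iff.2 fun y e => e ▸ h.eq, hx⟩
theorem S_sq {s : G} (hs : s ∈ S) : s * s ∈ CC V := by
  obtain ⟨b, hb, d, hd, rfl⟩ := c.L6' hs
  rw [show b * d * (b * d) = b * b * (b⁻¹ * d * b) * d by group]
  exact mul_mem (mul_mem (c.a2 hb) (nm_cj' (Cf.KD (c.AK hb)) hd)) hd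

end Qd

end Cfsg.Agent.EPC
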