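import Cfsg.Agent.Lib.EPC.Syl

/-!
# Transitivity on `V#`, the torus, and `q ∈ {2, 4}`
-/

set_option autoImplicit false
set_option linter.unusedSectionVars false

namespace Cfsg.Agent.EPC

open Subgroup R3 EPO Nine

universe u

variable {G : Type u} [Group G]

namespace Qd

variable [Finite G] {S V A S' A' : Subgroup G} (c : Qd S V A)
include c

theorem exists_n (c' : Qd S' V A') (h : WW V A ⊓ WW V A' = ⊥) {a : G} (ha : a ∈ A) (aD : a ∉ CC V) :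
    ∃ n ∈ NN V, n⁻¹ = n ∧ (∀ x ∈ WW V A', n * x * n⁻¹ = cm x a) ∧ ∀ w ∈ WW V A, n * w * n⁻¹ ∈ WW V A' := by
  obtain ⟨a', ha', aD', h3⟩ := c.tri c' h ha aD
  have ia := EA.inv c.eA ha
  have ia' := EA.inv c'.eA ha'
  have e : a * a' * a = a' * a * a' := by
    calc _ = (a * a') ^ 3 * (a'⁻¹ * a⁻¹ * a'⁻¹) := by simp only [pow_succ]; group
      _ = _ := by rw [h3, one_mul, ia, ia']
  have nK := mul_mem (mul_mem (c.AK ha) (c'.AK ha')) (c.AK ha)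
  have e1 : a * a' * a * a' * (a * a' * a)⁻¹ = a := by
    rw [mul_inv_eq_iff_eq_mul]; nth_rw 2 [e]; group
  have e2 : a * a' * a * a * (a * a' * a)⁻¹ = a' := by
    rw [mul_inv_eq_iff_eq_mul]; nth_rw 1 [e]; group
  refine ⟨_, nK, by simp [ia, ia', mul_assoc], fun x hx => ?_, fun w hw => c'.Wx_eq ha' aD' ▸ mem_Wx.2
    ⟨nm_cj nK hw.1, by have := com_cj (a * a' * a) ((mem_WW.1 hw).2 a ha).symm; rwa [e2] at this⟩⟩
  have h1 : a * a' * a * x * (a * a' * a)⁻¹ ∈ WW V A := c.Wx_eq ha aD ▸ mem_Wx.2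
    ⟨nm_cj nK hx.1, by have := com_cj (a * a' * a) ((mem_WW.1 hx).2 a' ha').symm; rwa [e1] at this⟩
  have hw := c.cm_W hx.1 ha
  have k := cj_of ((mem_WW.1 hx).2 a' ha').symm
  have h2 : a * a' * a * x * (a * a' * a)⁻¹ = cm x a * (x * cm (cm x a) a') := by
    calc _ = a' * (a * (a' * x * a'⁻¹) * a⁻¹) * a'⁻¹ := by rw [e]; group
      _ = _ := by
        rw [k, cj_cm (EA.sq c.ea hx.1), ← conj_mul, k, cj_cm (EA.sq c.ea hw.1), ← mul_assoc,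
          (EA.com c.ea hx.1 hw.1).eq, mul_assoc]
  rw [h2] at h1 ⊢
  rw [(eq_bot_iff_forall _).1 h _ ⟨(Subgroup.mul_mem_cancel_left _ hw).1 h1, mul_mem hx (c'.cm_W hw.1 ha')⟩, mul_one]

theorem exists_h (c' : Qd S' V A') (h : WW V A ⊓ WW V A' = ⊥) {a w w' : G} (ha : a ∈ A) (aD : a ∉ CC V)
    (hw : w ∈ WW V A) (w1 : w ≠ 1) (hw' : w' ∈ WW V A) (w1' : w' ≠ 1) :
    ∃ g ∈ NN V, g ∈ NN (WW V A) ∧ g * w * g⁻¹ = w' ∧ ∀ x ∈ WW V A', cm (g * x * g⁻¹) a = g⁻¹ * cm x a * g := by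
  obtain ⟨n, nK, n2, n3, n4⟩ := c.exists_n c' h ha aD
  have hx := n4 w hw
  obtain ⟨b, hb, e⟩ := c.reg hx.1 (fun h' => w1 (conj_eq_one_iff.1 ((eq_bot_iff_forall _).1 h _ ⟨h', hx⟩))) hw'
  obtain ⟨m, mK, m2, m3, m4⟩ := c.exists_n c' h hb
    fun h' => w1' (e ▸ (cm_eq_one (EA.sq c.ea hx.1)).2 (mem_CC.1 h' _ hx.1))
  have k : ∀ u, m * n * u * (m * n)⁻¹ = m * (n * u * n⁻¹) * m⁻¹ := fun u => by group
  refine ⟨m * n, mul_mem mK nK, nm_of fun u hu => ?_, by rw [k, m3 _ hx, e], fun x hx => ?_⟩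
  · rw [k, m3 _ (n4 u hu)]; exact c.cm_W (n4 u hu).1 hb
  · rw [← n3 x hx, ← n3 _ (by rw [k, n3 x hx]; exact m4 _ (c.cm_W hx.1 ha))]
    simp [n2, m2, mul_assoc]

theorem T1 {w w' : G} (hw : w ∈ WW V A) (w1 : w ≠ 1) (hw' : w' ∈ WW V A) (w1' : w' ≠ 1) :
    ∃ g ∈ NN V, g ∈ NN (WW V A) ∧ g * w * g⁻¹ = w' := by
  obtain ⟨S', A', c', h⟩ := c.exists_opp0
  obtain ⟨a, ha, aD⟩ := c.exA
  obtain ⟨g, h1, h2, h3, -⟩ := c.exists_h c' h ha aD hw w1 hw' w1'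
  exact ⟨g, h1, h2, h3⟩

theorem cm_W1 {w a : G} (hw : w ∈ WW V A) (ha : a ∈ A) : cm w a = 1 :=
  (cm_eq_one (EA.sq c.ea hw.1)).2 ((mem_WW.1 hw).2 a ha).symm

theorem T2 {h v a : G} (hK : h ∈ NN V) (hW : h ∈ NN (WW V A)) (hv : v ∈ V) (ha : a ∈ A) :
    cm (h * v * h⁻¹) a = h⁻¹ * cm v a * h := by
  by_cases aD : a ∈ CC V
  · rw [(cm_eq_one (EA.sq c.ea hv)).2 (mem_CC.1 aD _ hv),
      (cm_eq_one (EA.sq c.ea (nm_cj hK hv))).2 (mem_CC.1 aD _ (nm_cj hK hv))]; group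
  obtain ⟨S', A', c', o⟩ := c.exists_opp0
  obtain ⟨w, hw, w1⟩ := c.exW
  obtain ⟨g, h1, h2, h3, h4⟩ := c.exists_h c' o ha aD hw w1 (nm_cj hW hw) (by simpa using w1)
  have hs := c.CW (mul_mem (inv_mem h1) hK) hw w1 (of_cj (by
    calc _ = g⁻¹ * (h * w * h⁻¹) * g := by group
      _ = _ := by rw [← h3]; group))
  obtain ⟨s, rfl⟩ : ∃ s, h = g * s := ⟨g⁻¹ * h, by group⟩
  rw [inv_mul_cancel_left] at hs
  obtain ⟨u, hu, x, hx, rfl⟩ := c.split c' o hv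
  have aK := c.AK ha
  have k := c.cm_S hs hv
  rw [show g * s * (u * x) * (g * s)⁻¹ = g * (s * (u * x) * s⁻¹) * g⁻¹ by group, cj_cm (EA.sq c.ea hv), ← conj_mul,
    ← conj_mul, c.cm_left aK (mul_mem (nm_cj h1 hu.1) (nm_cj h1 hx.1)) (nm_cj h1 k.1),
    c.cm_left aK (nm_cj h1 hu.1) (nm_cj h1 hx.1), c.cm_left aK hu.1 hx.1, c.cm_W1 (nm_cj h2 hu) ha,
    c.cm_W1 (nm_cj h2 k) ha, c.cm_W1 hu ha, one_mul, one_mul, mul_one, h4 x hx]
  have := cj_of (c.S_W (inv_mem hs) (nm_cj' h2 (c.cm_W hx.1 ha)))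
  rw [← this]; group

theorem T3 {v w : G} (hv : v ∈ V) (v1 : v ≠ 1) (hw : w ∈ WW V A) (w1 : w ≠ 1) : ∃ k ∈ NN V, k * w * k⁻¹ = v := by
  by_cases vW : v ∈ WW V A
  · obtain ⟨g, h1, -, h2⟩ := c.T1 hw w1 vW v1
    exact ⟨g, h1, h2⟩
  obtain ⟨S', A', c', h, hv'⟩ := c.exists_opp hv vW
  obtain ⟨a, ha, aD⟩ := c.exA
  obtain ⟨n, nK, -, -, n4⟩ := c.exists_n c' h ha aD
  obtain ⟨g, h1, -, h2⟩ := c'.T1 (n4 w hw) (by simpa using w1) hv' v1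
  exact ⟨g * n, mul_mem h1 nK, by rw [← h2]; group⟩

theorem conjV {v v' : G} (hv : v ∈ V) (hv' : v' ∈ V) (v1 : v ≠ 1) (v1' : v' ≠ 1) : IsConj v v' := by
  obtain ⟨w, hw, w1⟩ := c.exW
  obtain ⟨k, -, rfl⟩ := c.T3 hv v1 hw w1
  obtain ⟨l, -, rfl⟩ := c.T3 hv' v1' hw w1
  exact (isConj_iff.2 ⟨k, rfl⟩).symm.trans (isConj_iff.2 ⟨l, rfl⟩)

theorem DV (hN : S ≤ NN A) : CC V ≤ V := by
  obtain ⟨a, ha, aD⟩ := c.exA
  have a2 := EA.sq c.eA ha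
  have k : ∀ d ∈ CC V, cm a d ∈ WW V A := fun d hd => c.inf_D ▸ ⟨mul_mem ha (nm_cj (hN (c.DS hd)) ha), by
    rw [show cm a d = a * d * a⁻¹ * (a * a) * d⁻¹ by rw [cm]; group]
    exact (CC V).mul_mem (mul_mem (nm_cj (Cf.KD (c.AK ha)) hd) (c.a2 ha)) (inv_mem hd)⟩
  obtain ⟨R, h1, h2⟩ := hom_card (X := CC V) (Y := Wx (CC V) a) (cm a)
    (fun d hd e he => by rw [cm_mul a2, cj_of (mem_CC.1 hd _ (k e he).1)])
    fun d => mem_Wx.trans (and_congr_right fun _ => Commute.symm_iff.trans (cm_eq_one a2).symm)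
  have h3 := card_le_of_le (show R ≤ WW V A from fun r hr => by
    obtain ⟨d, hd, rfl⟩ := (h1 r).1 hr
    exact k d hd)
  obtain ⟨g, hg, hn⟩ := c.baer (c.AK ha) (c.a2 ha) aD
  have h4 := card_mul_le (A := Wx (CC V) a) (B := Wx (CC V) (g * a * g⁻¹)) (E := CC V) inf_le_left inf_le_left
  rw [show Wx (CC V) a ⊓ Wx (CC V) (g * a * g⁻¹) = ⊥ from (eq_bot_iff_forall _).2 fun v hv =>
    c.fix hn (c.DS (mem_Wx.1 hv.1).1) ((mem_Wx.1 hv.1).2.mul_right (mem_Wx.1 hv.2).2).symm, card_bot, one_mul,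
    Cf.Wx_cj (Cf.KD hg), Nine.card_cj, h2] at h4
  refine (eq_of_le_of_card_ge c.VD ?_).ge
  rw [h2, ← c.card_W, pow_two]
  exact Nat.mul_le_mul ((Nat.le_of_mul_le_mul_left h4 Nat.card_pos).trans h3) h3

theorem inv_S (hD : CC V ≤ V) {s : G} (hs : s ∈ S) (s2 : s * s = 1) : s ∈ V ∨ s ∈ A := by
  obtain ⟨b, hb, d, hd, rfl⟩ := c.L6' hs
  by_cases h : d ∈ WW V A
  · exact Or.inr (mul_mem hb (c.WA h))
  refine Or.inl (mul_mem (hD (c.nd (hD hd) h hb ?_)) (hD hd))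
  have := eq_inv_of_mul_eq_one_left s2
  rw [mul_inv_rev, EA.inv c.eA hb, EA.inv c.ea (hD hd)] at this
  exact this.symm

theorem nm_A (hD : CC V ≤ V) {h : G} (hK : h ∈ NN V) (hW : h ∈ NN (WW V A)) : h ∈ NN A := nm_of fun a ha => by
  by_cases aD : a ∈ CC V
  · exact c.WA (nm_cj hW (c.inf_D ▸ ⟨ha, aD⟩))
  obtain ⟨w, hw, w1⟩ := c.exW
  refine (c.inv_S hD (c.CW (mul_mem (mul_mem hK (c.AK ha)) (inv_mem hK)) hw w1 ?_)
    (by rw [conj_mul, EA.sq c.eA ha]; group)).resolve_left fun e => aD (c.VD (by simpa [mul_assoc] using nm_cj' hK e))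
  simpa [mul_assoc] using com_cj h ((mem_WW.1 (nm_cj' hW hw)).2 a ha).symm

theorem cm_symm {v a : G} (hv : v ∈ V) (ha : a ∈ A) : cm a v = cm v a := by
  rw [← EA.inv c.ea (c.cm_W hv ha).1]
  simp [cm, EA.inv c.ea hv, EA.inv c.eA ha, mul_assoc]

theorem cube (c2 : Qd S A V) {h w : G} (hK : h ∈ NN V) (hW : h ∈ NN (WW V A)) (hw : w ∈ WW V A) :
    h * (h * w * h⁻¹) * h⁻¹ = h⁻¹ * w * h := by
  have hA := c.nm_A (c.DV c2.SK) hK hW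
  obtain ⟨a, ha, aD⟩ := c.exA
  obtain ⟨v, hv, rfl⟩ := c.onto ha aD hw
  have h1 := c.T2 hK hW hv (nm_cj hA ha)
  have h2 := c2.T2 hA (by rw [show WW A V = WW V A from c.inf_D]; exact hW) ha hv
  rw [cm_cj, ← c.cm_symm hv (nm_cj hA ha), h2, c.cm_symm hv ha] at h1
  rw [h1]; group

theorem rel (c2 : Qd S A V) {h w : G} (hK : h ∈ NN V) (hW : h ∈ NN (WW V A)) (hS : h ∉ S) (hw : w ∈ WW V A) :
    h⁻¹ * w * h = w * (h * w * h⁻¹) := by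
  have h1 := nm_cj hW hw
  have h2 := nm_cj' hW hw
  have : h⁻¹ * w * h * (w * (h * w * h⁻¹)) = 1 := by
    by_contra e
    refine hS (c.CW hK (mul_mem h2 (mul_mem hw h1)) e (of_cj ?_))
    calc _ = w * (h * w * h⁻¹) * (h * (h * w * h⁻¹) * h⁻¹) := by group
      _ = _ := by rw [c.cube c2 hK hW hw, (EA.com c.ea h2.1 (mul_mem hw.1 h1.1)).eq]
  rw [eq_inv_of_mul_eq_one_left this, EA.inv c.ea (mul_mem hw.1 h1.1)]

theorem q4 (c2 : Qd S A V) : Nat.card (WW V A) = 2 ∨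
    Nat.card (WW V A) = 4 ∧ ∃ g, orderOf g = 3 ∧ g ∈ NN V ∧ g ∈ NN A := by
  classical
  obtain ⟨w, hw, w1⟩ := c.exW
  have ev : 2 ∣ Nat.card (WW V A) := by
    have := orderOf_dvd_natCard (⟨w, hw⟩ : WW V A)
    rwa [← orderOf_coe, orderOf_eq_prime (by rw [pow_two]; exact EA.sq c.ea hw.1) w1] at this
  have pos : 0 < Nat.card (WW V A) := Nat.card_pos
  have le : ∀ s : Finset G, (∀ x ∈ WW V A, x ∈ s) → Nat.card (WW V A) ≤ s.card := fun s h => by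
    rw [← Set.ncard_coe_finset]; exact Set.ncard_le_ncard h
  by_cases h2 : ∀ x ∈ WW V A, x ∈ ({1, w} : Finset G)
  · have := (le _ h2).trans Finset.card_le_two
    omega
  push Not at h2
  obtain ⟨x, hx, hx'⟩ := h2
  simp only [Finset.mem_insert, Finset.mem_singleton, not_or] at hx'
  obtain ⟨h, hK, hW, rfl⟩ := c.T1 hw w1 hx hx'.1
  have nS : ∀ {g : G}, g * w * g⁻¹ ≠ w → g ∉ S := fun e hs => e (cj_of (c.S_W hs hw))
  have hS := nS hx'.2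
  have h4 : ∀ u ∈ WW V A, u ∈ ({1, w, h * w * h⁻¹, h⁻¹ * w * h} : Finset G) := fun u hu => by
    by_contra hu'
    simp only [Finset.mem_insert, Finset.mem_singleton, not_or] at hu'
    obtain ⟨k, kK, kW, rfl⟩ := c.T1 hw w1 hu hu'.1
    have r1 := c.rel c2 (mul_mem hK kK) (mul_mem hW kW) (nS fun e => hu'.2.2.2 (by
      nth_rw 2 [← e]; group)) hw
    have r2 := c.rel c2 (mul_mem (inv_mem hK) kK) (mul_mem (inv_mem hW) kW) (nS fun e => hu'.2.2.1 (by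
      nth_rw 2 [← e]; group)) hw
    have rk := fun u => c.rel c2 (w := u) kK kW (nS hu'.2.1)
    rw [show (h * k)⁻¹ * w * (h * k) = k⁻¹ * (h⁻¹ * w * h) * k by group, c.rel c2 hK hW hS hw,
      show k⁻¹ * (w * (h * w * h⁻¹)) * k = k⁻¹ * w * k * (k⁻¹ * (h * w * h⁻¹) * k) by group, rk w hw, mul_assoc,
      mul_right_inj] at r1
    rw [show (h⁻¹ * k)⁻¹ * w * (h⁻¹ * k) = k⁻¹ * (h * w * h⁻¹) * k by group,
      show h⁻¹ * k * w * (h⁻¹ * k)⁻¹ = h⁻¹ * (k * w * k⁻¹) * h by group, c.rel c2 hK hW hS hu] at r2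
    rw [r2, ← mul_assoc, ← mul_assoc, ← mul_assoc, (EA.com c.ea hu.1 hw.1).eq, mul_assoc w, EA.sq c.ea hu.1] at r1
    exact w1 (by simpa [mul_assoc] using r1)
  have h3 : ({1, w, h * w * h⁻¹} : Finset G).card ≤ Nat.card (WW V A) := by
    rw [← Set.ncard_coe_finset]
    exact Set.ncard_le_ncard (t := (WW V A : Set G)) (by simp [Set.insert_subset_iff, hw, hx])
  rw [Finset.card_eq_three.2 ⟨_, _, _, w1.symm, Ne.symm hx'.1, Ne.symm hx'.2, rfl⟩] at h3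
  have := (le _ h4).trans Finset.card_le_four
  refine Or.inr ⟨by omega, h, ?_, hK, c.nm_A (c.DV c2.SK) hK hW⟩
  have s3 : h ^ 3 ∈ S := c.CW (pow_mem hK 3) hw w1 (of_cj (by
    calc _ = h * (h * (h * w * h⁻¹) * h⁻¹) * h⁻¹ := by rw [pow_three']; group
      _ = _ := by rw [c.cube c2 hK hW hw]; group))
  refine orderOf_eq_prime (c.fix (fun ⟨n, hn⟩ => hS ?_) s3 ((Commute.refl h).pow_right 3)) fun e => hS (e ▸ one_mem _)
  refine zpowers_le.2 s3 (mem_zpowers_pow_iff.2 ?_)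
  exact Nat.Coprime.coprime_dvd_right (orderOf_dvd_of_pow_eq_one hn) (Nat.Coprime.pow_right n (by norm_num))

end Qd

end Cfsg.Agent.EPC
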